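import Cfsg.Agent.Lib.HallGen.RankWord.Main
import Cfsg.Prelude.Def_Transfer

/-!
# Groups of automorphisms of large rank

* `class_bound_aut`: the bound for a subgroup of the automorphism group
-/

set_option autoImplicit false
set_option linter.all false

namespace CfsgLib.HallGen.RankWord

open Subgroup

universe u

/-- The bound for a subgroup of the automorphism group. -/
theorem class_bound_aut {p k c : ℕ} (hp : p.Prime) (hk : 3 ≤ k) (w : CW) (hm : w.leaves + 2 ≤ k)
    {G : Type u} [Group G] [Finite G] (hG : (Nat.card G).Coprime p) (A : Subgroup (MulAut G))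
    (hA : Cfsg.IsElementaryAbelian p A) (hcard : Nat.card A = p ^ k)
    (h : ∀ a ∈ A, a ≠ 1 →
      (w.val ((a : MulAut G).toMonoidHom.eqLocus (MonoidHom.id G))).lowerCentralSeries c = ⊥) :
    (w.val (⊤ : Subgroup G)).lowerCentralSeries (classFn p k c w.leaves) = ⊥ := by
  haveI : Finite A := Nat.finite_of_card_ne_zero (hcard ▸ pow_ne_zero k hp.ne_zero)
  have hS : Setup p A G :=
    ⟨hp, fun a b => hA.1.is_comm.comm a b, fun a => Subtype.ext (hA.2 _ a.2),
      fun hd => hp.ne_one (Nat.eq_one_of_dvd_coprimes hG hd dvd_rfl)⟩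
  refine class_bound hS w hcard hk hm fun a ha => ?_
  have e : (Fx (zpowers a) : Subgroup G) = (a : MulAut G).toMonoidHom.eqLocus (MonoidHom.id G) := by
    refine le_antisymm (fun g hg => hg a (mem_zpowers a)) fun g hg e he => ?_
    have hag : a • g = g := hg
    exact (zpowers_le.2 hag : zpowers a ≤ MulAction.stabilizer A g) he
  rw [e]
  exact h a a.2 fun e' => ha (Subtype.ext e')

end CfsgLib.HallGen.RankWord
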