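import Mathlib
import Cfsg.Agent.Lib.Core.Coprime
import Cfsg.Agent.Lib.LocalEven.Generation

/-!
# Fixed points of subgroups of an elementary abelian operator group acting coprimely

* `exists_fix_in_coset`: invariant cosets contain fixed points
* `le_of_hyperplanes`: an invariant subgroup is generated by the fixed points of subgroups of index at most `p`
-/

set_option autoImplicit false
set_option linter.all false

namespace CfsgLib.HallGen.RankWord

open Subgroup

variable {A G : Type*} [Group A] [Group G] [MulDistribMulAction A G]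

/-- The fixed points of a subgroup of operators. -/
def Fx (E : Subgroup A) : Subgroup G where
  carrier := {g | ∀ e ∈ E, e • g = g}
  one_mem' := fun e _ => smul_one e
  mul_mem' := fun {x y} hx hy e he => by rw [smul_mul', hx e he, hy e he]
  inv_mem' := fun {x} hx e he => by rw [smul_inv', hx e he]

theorem mem_Fx {E : Subgroup A} {g : G} : g ∈ (Fx E : Subgroup G) ↔ ∀ e ∈ E, e • g = g := Iff.rfl

theorem Fx_anti {D E : Subgroup A} (h : D ≤ E) : (Fx E : Subgroup G) ≤ Fx D := fun _ hg d hd => hg d (h hd)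

/-- Invariance under the operators. -/
def Inv (A : Type*) [Group A] [MulDistribMulAction A G] (H : Subgroup G) : Prop := ∀ a : A, ∀ h ∈ H, a • h ∈ H

theorem inv_Fx (hAc : ∀ a b : A, a * b = b * a) (E : Subgroup A) : Inv A (Fx E : Subgroup G) :=
  fun a g hg e he => by rw [← mul_smul, hAc, mul_smul, hg e he]

theorem Inv.inf {H K : Subgroup G} (hH : Inv A H) (hK : Inv A K) : Inv A (H ⊓ K) :=
  fun a _ hh => ⟨hH a _ hh.1, hK a _ hh.2⟩

theorem inv_top : Inv A (⊤ : Subgroup G) := fun _ _ _ => mem_top _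

theorem inv_bot : Inv A (⊥ : Subgroup G) := fun a h hh => by rw [mem_bot.1 hh, smul_one]; exact one_mem _

/-- The elementary abelian operator group and coprimality. -/
structure Setup (p : ℕ) (A G : Type*) [Group A] [Group G] : Prop where
  prime : p.Prime
  comm : ∀ a b : A, a * b = b * a
  exp : ∀ a : A, a ^ p = 1
  cop : ¬ p ∣ Nat.card G

variable [Finite A] {p : ℕ}

theorem Setup.card_A (hS : Setup p A G) : ∃ k, Nat.card A = p ^ k := by
  haveI := Fact.mk hS.prime
  exact (IsPGroup.iff_card (p := p) (G := A)).1 fun a => ⟨1, by rw [pow_one, hS.exp]⟩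

theorem Setup.coprime (hS : Setup p A G) (E : Subgroup A) (n : ℕ) (hn : n ∣ Nat.card G) :
    (Nat.card E).Coprime n := by
  obtain ⟨k, hk⟩ := hS.card_A
  have h1 : Nat.card E ∣ p ^ k := hk ▸ E.card_subgroup_dvd_card
  exact ((hS.prime.coprime_iff_not_dvd.2 fun h => hS.cop (h.trans hn)).pow_left k).coprime_dvd_left h1

theorem Setup.normal (hS : Setup p A G) (E : Subgroup A) : E.Normal :=
  ⟨fun e he a => by rw [hS.comm a e, mul_assoc, mul_inv_cancel, mul_one]; exact he⟩

section ambient

variable (A G)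

local notation "Xt" => SemidirectProduct G A (MulDistribMulAction.toMulAut A G)

theorem conj_inl (a : A) (g : G) :
    (SemidirectProduct.inr a : Xt) * SemidirectProduct.inl g * (SemidirectProduct.inr a)⁻¹ = SemidirectProduct.inl (a • g) := by
  rw [← map_inv]
  exact (SemidirectProduct.inl_aut (φ := MulDistribMulAction.toMulAut A G) a g).symm

end ambient

variable [Finite G]

/-- An invariant coset of an invariant subgroup contains a fixed point. -/
theorem exists_fix_in_coset (hS : Setup p A G) {N : Subgroup G} (hN : Inv A N) (E : Subgroup A) {x : G}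
    (hx : ∀ e ∈ E, x⁻¹ * e • x ∈ N) : ∃ n ∈ N, x * n ∈ (Fx E : Subgroup G) := by
  let φ := MulDistribMulAction.toMulAut A G
  haveI : Finite (G ⋊[φ] A) := Finite.of_equiv _ (SemidirectProduct.equivProd (φ := φ)).symm
  let il : G →* G ⋊[φ] A := SemidirectProduct.inl
  let ir : A →* G ⋊[φ] A := SemidirectProduct.inr
  have hil : Function.Injective il := SemidirectProduct.inl_injective
  have hEN : E.map ir ≤ normalizer (N.map il : Set (G ⋊[φ] A)) := by
    rintro _ ⟨e, -, rfl⟩
    refine mem_normalizer_iff.2 fun y => ⟨?_, fun h => ?_⟩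
    · rintro ⟨n, hn, rfl⟩
      exact ⟨e • n, hN e n hn, (conj_inl A G e n).symm⟩
    · obtain ⟨n, hn, he⟩ := h
      refine ⟨e⁻¹ • n, hN e⁻¹ n hn, ?_⟩
      show il (e⁻¹ • n) = y
      rw [← conj_inl A G e⁻¹ n, map_inv]
      show (ir e)⁻¹ * il n * (ir e)⁻¹⁻¹ = y
      rw [he]
      group
  have hc : (Nat.card (E.map ir)).Coprime (Nat.card (N.map il)) := by
    rw [card_map_of_injective SemidirectProduct.inr_injective, card_map_of_injective hil]
    exact hS.coprime E _ N.card_subgroup_dvd_card
  have hsol : Group.IsSolvable (E.map ir) := by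
    exact Group.isSolvable_of_comm fun a b => by
      obtain ⟨_, a', -, rfl⟩ := a
      obtain ⟨_, b', -, rfl⟩ := b
      exact Subtype.ext (show ir a' * ir b' = ir b' * ir a' by rw [← map_mul, ← map_mul, hS.comm])
  obtain ⟨_, ⟨n, hn, rfl⟩, hfix⟩ := CfsgLib.Core.exists_centralizing_in_coset hEN hc (Or.inl hsol)
    (k := il x) (by
      rintro _ ⟨e, he, rfl⟩
      refine ⟨x⁻¹ * e • x, hx e he, ?_⟩
      rw [conj_inl A G e x, ← map_inv, ← map_mul])
  refine ⟨n, hn, fun e he => hil ?_⟩
  rw [← map_mul] at hfix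
  show il (e • (x * n)) = il (x * n)
  rw [← conj_inl A G e (x * n), mem_centralizer_iff.1 hfix _ (mem_map_of_mem ir he), mul_inv_cancel_right]

/-- Generation by the fixed points of the elements of a subgroup of order at least `p ^ 2`. -/
theorem le_of_fix (hS : Setup p A G) (A₁ : Subgroup A) (h2 : p ^ 2 ≤ Nat.card A₁) {R Y : Subgroup G}
    (hR : Inv A R) (h : ∀ a ∈ A₁, a ≠ 1 → ∀ x ∈ R, a • x = x → x ∈ Y) : R ≤ Y := by
  haveI := Fact.mk hS.prime
  let φ := MulDistribMulAction.toMulAut A G
  haveI : Finite (G ⋊[φ] A) := Finite.of_equiv _ (SemidirectProduct.equivProd (φ := φ)).symm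
  let il : G →* G ⋊[φ] A := SemidirectProduct.inl
  let ir : A →* G ⋊[φ] A := SemidirectProduct.inr
  have hil : Function.Injective il := SemidirectProduct.inl_injective
  haveI : IsMulCommutative (A₁.map ir) := IsMulCommutative.of_comm fun a b => by
    obtain ⟨_, a', -, rfl⟩ := a
    obtain ⟨_, b', -, rfl⟩ := b
    exact Subtype.ext (show ir a' * ir b' = ir b' * ir a' by rw [← map_mul, ← map_mul, hS.comm])
  have key : R.map il ≤ Y.map il := by
    refine CfsgLib.LocalEven.le_of_centralizers_le (A := A₁.map ir) (p := p) ?_ ?_ ?_ ?_ ?_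
    · rintro _ ⟨a, -, rfl⟩
      rw [← map_pow, hS.exp, map_one]
    · rwa [card_map_of_injective SemidirectProduct.inr_injective]
    · rintro _ ⟨a, -, rfl⟩
      refine mem_normalizer_iff.2 fun y => ⟨?_, fun h' => ?_⟩
      · rintro ⟨n, hn, rfl⟩
        exact ⟨a • n, hR a n hn, (conj_inl A G a n).symm⟩
      · obtain ⟨n, hn, he⟩ := h'
        refine ⟨a⁻¹ • n, hR a⁻¹ n hn, ?_⟩
        show il (a⁻¹ • n) = y
        rw [← conj_inl A G a⁻¹ n, map_inv]
        show (ir a)⁻¹ * il n * (ir a)⁻¹⁻¹ = y
        rw [he]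
        group
    · rw [card_map_of_injective hil]
      exact fun hd => hS.cop (hd.trans R.card_subgroup_dvd_card)
    · rintro _ ⟨a, ha, rfl⟩ ha1 _ ⟨⟨x, hx, rfl⟩, hc⟩
      refine mem_map_of_mem il (h a ha (fun e => ha1 (by rw [e, map_one])) x hx (hil ?_))
      rw [← conj_inl A G a x, (mem_centralizer_singleton_iff.1 hc).symm, mul_inv_cancel_right]
  exact (map_le_map_iff_of_injective hil).1 key

/-- Generation by the fixed points of the subgroups of index at most `p`. -/
theorem le_of_hyperplanes (hS : Setup p A G) {R Y : Subgroup G} (hR : Inv A R)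
    (h : ∀ B : Subgroup A, B.index ≤ p → R ⊓ Fx B ≤ Y) : R ≤ Y := by
  haveI := Fact.mk hS.prime
  suffices hmain : ∀ (n : ℕ) (E : Subgroup A), E.index ≤ n → R ⊓ Fx E ≤ Y by
    refine le_trans (le_inf le_rfl ?_) (hmain _ ⊥ le_rfl)
    intro x _ e he
    rw [mem_bot.1 he, one_smul]
  intro n
  induction n using Nat.strong_induction_on with
  | _ n ih =>
  intro E hE
  by_cases hEp : E.index ≤ p
  · exact h E hEp
  push Not at hEp
  obtain ⟨x, hx⟩ : ∃ x : A, x ∉ E := by
    by_contra hc
    push Not at hc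
    rw [show E = ⊤ from eq_top_iff.2 fun a _ => hc a, index_top] at hEp
    exact absurd hEp (not_lt.2 hS.prime.one_lt.le)
  have hord : ∀ x : A, x ≠ 1 → orderOf x = p := fun x hx => orderOf_eq_prime (hS.exp x) hx
  have hindx : (E ⊔ zpowers x).index * p = E.index := by
    haveI := hS.normal E
    have h1 := relIndex_mul_index (le_sup_left : E ≤ E ⊔ zpowers x)
    have h2 : E.relIndex (E ⊔ zpowers x) = p := by
      rw [sup_comm, relIndex_sup_right]
      have h4 : E.relIndex (zpowers x) ∣ Nat.card (zpowers x) := relIndex_dvd_card ..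
      rw [Nat.card_zpowers, hord x (fun e => hx (e ▸ one_mem E))] at h4
      refine ((Nat.dvd_prime hS.prime).1 h4).resolve_left fun h5 => hx ?_
      exact relIndex_eq_one.1 h5 (mem_zpowers x)
    rw [← h1, h2, mul_comm]
  obtain ⟨y, hy⟩ : ∃ y : A, y ∉ E ⊔ zpowers x := by
    by_contra hc
    push Not at hc
    rw [show E ⊔ zpowers x = ⊤ from eq_top_iff.2 fun a _ => hc a, index_top, one_mul] at hindx
    omega
  let A₁ := zpowers x ⊔ zpowers y
  have hA₁ : p ^ 2 ≤ Nat.card A₁ := by
    haveI := hS.normal (zpowers x)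
    have h1 : (zpowers x).relIndex A₁ = p := by
      show (zpowers x).relIndex (zpowers x ⊔ zpowers y) = p
      rw [sup_comm, relIndex_sup_right]
      have h4 : (zpowers x).relIndex (zpowers y) ∣ Nat.card (zpowers y) := relIndex_dvd_card ..
      rw [Nat.card_zpowers, hord y (fun e => hy (e ▸ one_mem _))] at h4
      refine ((Nat.dvd_prime hS.prime).1 h4).resolve_left fun h5 => hy ?_
      exact mem_sup_right (relIndex_eq_one.1 h5 (mem_zpowers y))
    have h2 := card_mul_index ((zpowers x).subgroupOf A₁)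
    rw [Nat.card_congr (subgroupOfEquivOfLe (le_sup_left : zpowers x ≤ A₁)).toEquiv, Nat.card_zpowers,
      hord x (fun e => hx (e ▸ one_mem E))] at h2
    change p * (zpowers x).relIndex A₁ = _ at h2
    rw [← h2, h1, sq]
  have hdis : ∀ a ∈ A₁, a ∈ E → a = 1 := by
    intro a ha haE
    haveI := hS.normal (zpowers y)
    rw [mem_sup_of_normal_right] at ha
    obtain ⟨u, hu, v, hv, rfl⟩ := ha
    have hv1 : v ∈ E ⊔ zpowers x := by
      have := mul_mem (inv_mem (mem_sup_right hu : u ∈ E ⊔ zpowers x)) (mem_sup_left haE)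
      rwa [inv_mul_cancel_left] at this
    obtain rfl : v = 1 := by
      by_contra hv0
      have h5 : orderOf v = orderOf y := by rw [hord v hv0, hord y (fun e => hy (e ▸ one_mem _))]
      have hz : zpowers v = zpowers y := eq_of_le_of_card_ge (zpowers_le.2 hv)
        (by rw [Nat.card_zpowers, Nat.card_zpowers, h5])
      exact hy ((zpowers_le.2 hv1) (hz ▸ mem_zpowers y))
    rw [mul_one] at haE ⊢
    by_contra hu0
    have h5 : orderOf u = orderOf x := by rw [hord u hu0, hord x (fun e => hx (e ▸ one_mem E))]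
    have hz : zpowers u = zpowers x := eq_of_le_of_card_ge (zpowers_le.2 hu)
      (by rw [Nat.card_zpowers, Nat.card_zpowers, h5])
    exact hx ((zpowers_le.2 haE) (hz ▸ mem_zpowers x))
  refine le_of_fix hS A₁ hA₁ (hR.inf (inv_Fx hS.comm E)) fun a ha ha1 z hz haz => ?_
  have hlt : (E ⊔ zpowers a).index < E.index := by
    have haE : a ∉ E := fun h => ha1 (hdis a ha h)
    exact index_strictAnti (lt_of_le_of_ne le_sup_left fun e => haE (e.ge (mem_sup_right (mem_zpowers a))))
  refine ih _ (hlt.trans_le hE) _ le_rfl ⟨hz.1, ?_⟩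
  have hle : E ⊔ zpowers a ≤ MulAction.stabilizer A z :=
    sup_le (fun e he => hz.2 e he) (zpowers_le.2 haz)
  exact fun e he => hle he

end CfsgLib.HallGen.RankWord
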