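import Cfsg.Agent.Lib.HallGen.RankWord.Word
import Cfsg.Agent.Lib.HallGen.Basic
import Cfsg.Agent.Lib.Signalizer.General.SolvableAction
import Cfsg.Agent.Lib.Core.AssociatedLie
import Cfsg.Agent.Lib.Core.Cores
import Cfsg.Agent.Lib.Components.Char
import Cfsg.Agent.Lib.SolvStruct.NilFactor

/-!
# Words of the fixed points of a group of operators of large rank

* `isSolvable_of_fix`: solvability from the centralisers of the operators
* `gen`: the fixed points in a verbal subgroup are generated by pieces
* `isNilpotent_val`: the verbal subgroup is nilpotent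
-/

set_option autoImplicit false
set_option linter.all false

namespace CfsgLib.HallGen.RankWord

open Subgroup
open scoped commutatorElement

universe u v

namespace CW

theorem bal_val_top (G : Type u) [Group G] : ∀ n, (bal n).val (⊤ : Subgroup G) = derivedSeries G n
  | 0 => rfl
  | n + 1 => by rw [bal, val, bal_val_top G n, derivedSeries_succ]

theorem bal_anti {G : Type u} [Group G] (H : Subgroup G) : Antitone fun n => (bal n).val H := by
  refine antitone_nat_of_succ_le fun n => ?_
  induction n with
  | zero => exact val_le H (bal 1)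
  | succ n ih => exact commutator_mono ih ih

theorem bal_le_val {G : Type u} [Group G] (H : Subgroup G) : ∀ w : CW, (bal w.leaves).val H ≤ w.val H
  | leaf => val_le H (bal 1)
  | node u v => by
      have h1 : 1 ≤ u.leaves := by induction u <;> simp_all [leaves] <;> omega
      have h2 : 1 ≤ v.leaves := by induction v <;> simp_all [leaves] <;> omega
      obtain ⟨n, hn⟩ : ∃ n, (node u v).leaves = n + 1 := ⟨u.leaves + v.leaves - 1, by simp only [leaves]; omega⟩
      rw [hn]
      exact commutator_mono ((bal_anti H (by simp only [leaves] at hn; omega)).trans (bal_le_val H u))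
        ((bal_anti H (by simp only [leaves] at hn; omega)).trans (bal_le_val H v))

theorem bal_add {G : Type u} [Group G] (H : Subgroup G) (n : ℕ) :
    ∀ e, (bal (n + e)).val H = (bal e).val ((bal n).val H)
  | 0 => rfl
  | e + 1 => by
      show (bal (n + e + 1)).val H = _
      rw [bal, val, bal_add H n e, bal, val]

theorem isSolvable_iff {G : Type u} [Group G] (H : Subgroup G) :
    Group.IsSolvable H ↔ ∃ n, (bal n).val H = ⊥ := by
  rw [Group.isSolvable_def]
  refine exists_congr fun n => ?_
  rw [val_bal, Subgroup.map_eq_bot_iff_of_injective _ H.subtype_injective]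

/-- A group with a solvable verbal subgroup is solvable. -/
theorem isSolvable_of_val {G : Type u} [Group G] (H : Subgroup G) (w : CW) (h : Group.IsSolvable ↥(w.val H)) :
    Group.IsSolvable H := by
  obtain ⟨e, he⟩ := (isSolvable_iff _).1 h
  refine (isSolvable_iff _).2 ⟨w.leaves + e, ?_⟩
  rw [bal_add]
  exact le_bot_iff.1 ((val_mono (bal_le_val H w) (bal e)).trans he.le)

end CW

variable {A : Type v} [Group A] [Finite A] {p : ℕ}

section solvable

variable {G : Type u} [Group G] [Finite G] [MulDistribMulAction A G]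

/-- Solvability from the centralisers of the operators. -/
theorem isSolvable_of_fix (hS : Setup p A G) (h3 : p ^ 3 ≤ Nat.card A)
    (h : ∀ a : A, a ≠ 1 → Group.IsSolvable ↥(Fx (zpowers a) : Subgroup G)) : Group.IsSolvable G := by
  haveI := Fact.mk hS.prime
  let φ := MulDistribMulAction.toMulAut A G
  haveI : Finite (G ⋊[φ] A) := Finite.of_equiv _ (SemidirectProduct.equivProd (φ := φ)).symm
  let il : G →* G ⋊[φ] A := SemidirectProduct.inl
  let ir : A →* G ⋊[φ] A := SemidirectProduct.inr
  have hil : Function.Injective il := SemidirectProduct.inl_injective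
  have hir : Function.Injective ir := SemidirectProduct.inr_injective
  have hA : Cfsg.IsElementaryAbelian p ir.range :=
    ⟨IsMulCommutative.of_comm fun a b => by
      obtain ⟨_, a', rfl⟩ := a
      obtain ⟨_, b', rfl⟩ := b
      exact Subtype.ext (show ir a' * ir b' = ir b' * ir a' by rw [← map_mul, ← map_mul, hS.comm]),
      by rintro _ ⟨a, rfl⟩; rw [← map_pow, hS.exp, map_one]⟩
  have hcA : Nat.card ir.range = Nat.card A :=
    (Nat.card_congr (MonoidHom.ofInjective hir).toEquiv).symm
  have hcK : Nat.card il.range = Nat.card G :=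
    (Nat.card_congr (MonoidHom.ofInjective hil).toEquiv).symm
  have key : Group.IsSolvable il.range := by
    refine CfsgLib.Signalizer.Gen.solvable_of_centralizers hA (hcA ▸ h3) (hcK ▸ hS.cop) ?_ ?_
    · rintro _ ⟨e, rfl⟩
      refine mem_normalizer_iff.2 fun y => ⟨?_, fun h' => ?_⟩
      · rintro ⟨n, rfl⟩
        exact ⟨e • n, (conj_inl A G e n).symm⟩
      · obtain ⟨n, he⟩ := h'
        refine ⟨e⁻¹ • n, ?_⟩
        show il (e⁻¹ • n) = y
        rw [← conj_inl A G e⁻¹ n, map_inv]
        show (ir e)⁻¹ * il n * (ir e)⁻¹⁻¹ = y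
        rw [he]
        group
    · rintro _ ⟨a, rfl⟩ ha1
      have ha : a ≠ 1 := fun e => ha1 (by rw [e, map_one])
      have heq : il.range ⊓ centralizer ({ir a} : Set (G ⋊[φ] A)) = (Fx (zpowers a) : Subgroup G).map il := by
        refine le_antisymm ?_ ?_
        · rintro _ ⟨⟨g, rfl⟩, hg⟩
          refine mem_map_of_mem il fun e he => ?_
          have hag : a • g = g := hil (by
            show il (a • g) = il g
            rw [← conj_inl A G a g, (mem_centralizer_singleton_iff.1 hg).symm, mul_inv_cancel_right])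
          exact (zpowers_le.2 hag : zpowers a ≤ MulAction.stabilizer A g) he
        · rintro _ ⟨g, hg, rfl⟩
          refine ⟨⟨g, rfl⟩, mem_centralizer_singleton_iff.2 ?_⟩
          have e := conj_inl A G a g
          rw [hg a (mem_zpowers a)] at e
          exact (mul_inv_eq_iff_eq_mul.1 e).symm
      rw [heq]
      haveI := h a ha
      exact solvable_of_surjective ((Fx (zpowers a) : Subgroup G).equivMapOfInjective il hil).surjective
        (f := ((Fx (zpowers a) : Subgroup G).equivMapOfInjective il hil).toMonoidHom)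
  haveI := key
  exact solvable_of_surjective (f := (MonoidHom.ofInjective hil).symm.toMonoidHom) (MonoidHom.ofInjective hil).symm.surjective

end solvable

section tools

variable {G : Type u} [Group G] [Finite G] [MulDistribMulAction A G]

theorem inv_characteristic (H : Subgroup G) [hH : H.Characteristic] : Inv A H := fun a x hx =>
  (hH.fixed (MulDistribMulAction.toMulEquiv G a)).ge hx

/-- A solvable group is a nilpotent normal subgroup times a proper invariant subgroup. -/
theorem exists_split (hS : Setup p A G) [Group.IsSolvable G] [Nontrivial G] :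
    ∃ E M : Subgroup G, E.Normal ∧ Inv A E ∧ Group.IsNilpotent E ∧ Inv A M ∧ M ≠ ⊤ ∧ E ⊔ M = ⊤ := by
  classical
  obtain ⟨F, hF⟩ : ∃ F, F = Cfsg.fittingSubgroup G := ⟨_, rfl⟩
  haveI hFn : F.Normal := hF ▸ CfsgLib.HallGen.fittingSubgroup_normal'
  have hFnil : Group.IsNilpotent F := hF ▸ CfsgLib.HallGen.isNilpotent_fittingSubgroup
  haveI hFc : F.Characteristic := hF ▸ CfsgLib.Components.fitting_characteristic
  by_cases hFT : F = ⊤
  · exact ⟨F, ⊥, hFn, inv_characteristic F, hFnil, inv_bot, bot_ne_top, by rw [hFT, top_sup_eq]⟩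
  haveI : Nontrivial (G ⧸ F) := by
    rw [← not_subsingleton_iff_nontrivial, QuotientGroup.subsingleton_iff]
    exact hFT
  obtain ⟨q, hq, hne⟩ := CfsgLib.Core.exists_pCore_ne_bot (G := G ⧸ F)
  haveI := Fact.mk hq
  let π := QuotientGroup.mk' F
  obtain ⟨L, hL⟩ : ∃ L, L = (Cfsg.pCore q (G ⧸ F)).comap π := ⟨_, rfl⟩
  haveI hLn : L.Normal := by
    haveI := CfsgLib.HallGen.pCore_normal' (G := G ⧸ F) q
    rw [hL]; infer_instance
  have hFL : F ≤ L := fun x hx => by
    rw [hL, mem_comap, show π x = 1 from (QuotientGroup.eq_one_iff x).2 hx]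
    exact one_mem _
  have hLinv : Inv A L := fun a x hx => by
    have hFa : F.map (MulDistribMulAction.toMulEquiv G a).toMonoidHom = F :=
      characteristic_iff_map_eq.1 hFc _
    let e : G ⧸ F ≃* G ⧸ F := QuotientGroup.congr F F (MulDistribMulAction.toMulEquiv G a) hFa
    rw [hL, mem_comap] at hx ⊢
    have h1 : e (π x) ∈ (Cfsg.pCore q (G ⧸ F)).map e.toMonoidHom := ⟨π x, hx, rfl⟩
    rw [CfsgLib.Components.pCore_map_equiv] at h1
    exact h1
  obtain ⟨P₀, hP₀⟩ : ∃ P : Sylow q L, ∀ a : A, ∀ x ∈ (P : Subgroup L).map L.subtype,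
      a • x ∈ (P : Subgroup L).map L.subtype := by
    let φ := MulDistribMulAction.toMulAut A G
    haveI : Finite (G ⋊[φ] A) := Finite.of_equiv _ (SemidirectProduct.equivProd (φ := φ)).symm
    let il : G →* G ⋊[φ] A := SemidirectProduct.inl
    let ir : A →* G ⋊[φ] A := SemidirectProduct.inr
    have hil : Function.Injective il := SemidirectProduct.inl_injective
    have hn : ir.range ≤ normalizer ((L.map il : Subgroup (G ⋊[φ] A)) : Set (G ⋊[φ] A)) := by
      rintro _ ⟨e, rfl⟩
      refine mem_normalizer_iff.2 fun y => ⟨?_, fun h' => ?_⟩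
      · rintro ⟨n, hn, rfl⟩
        exact ⟨e • n, hLinv e n hn, (conj_inl A G e n).symm⟩
      · obtain ⟨n, hn, he⟩ := h'
        refine ⟨e⁻¹ • n, hLinv e⁻¹ n hn, ?_⟩
        show il (e⁻¹ • n) = y
        rw [← conj_inl A G e⁻¹ n, map_inv]
        show (ir e)⁻¹ * il n * (ir e)⁻¹⁻¹ = y
        rw [he]
        group
    have hc : (Nat.card ir.range).Coprime (Nat.card (L.map il)) := by
      rw [← Nat.card_congr (MonoidHom.ofInjective (SemidirectProduct.inr_injective (φ := φ))).toEquiv,
        card_map_of_injective hil, ← card_top (G := A)]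
      exact hS.coprime ⊤ _ L.card_subgroup_dvd_card
    have hsol : Group.IsSolvable ir.range := Group.isSolvable_of_comm fun a b => by
      obtain ⟨_, a', rfl⟩ := a
      obtain ⟨_, b', rfl⟩ := b
      exact Subtype.ext (show ir a' * ir b' = ir b' * ir a' by rw [← map_mul, ← map_mul, hS.comm])
    obtain ⟨P, hP⟩ := CfsgLib.Core.exists_invariant_sylow hn hc (Or.inl hsol) q
    obtain ⟨Q, hQ⟩ : ∃ Q : Subgroup G, Q = ((P : Subgroup (L.map il)).map (L.map il).subtype).comap il := ⟨_, rfl⟩
    have hQmap : Q.map il = (P : Subgroup (L.map il)).map (L.map il).subtype := by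
      rw [hQ, map_comap_eq_self]
      exact (map_subtype_le _).trans (map_le_range il L)
    have hQL : Q ≤ L := (map_le_map_iff_of_injective hil).1 (hQmap ▸ map_subtype_le _)
    have hQc : Nat.card (Q.subgroupOf L) = q ^ (Nat.card L).factorization q := by
      rw [Nat.card_congr (subgroupOfEquivOfLe hQL).toEquiv, ← card_map_of_injective hil, hQmap,
        card_map_of_injective (L.map il).subtype_injective, P.card_eq_multiplicity, card_map_of_injective hil]
    refine ⟨Sylow.ofCard _ hQc, fun a x hx => ?_⟩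
    rw [Sylow.coe_ofCard, map_subgroupOf_eq_of_le hQL] at hx ⊢
    have h1 : il x ∈ Q.map il := mem_map_of_mem il hx
    rw [hQmap] at h1
    have h2 := (mem_normalizer_iff.1 (hP ⟨a, rfl⟩) _).1 h1
    rw [conj_inl A G a x, ← hQmap] at h2
    obtain ⟨z, hz, hze⟩ := h2
    exact hil hze ▸ hz
  obtain ⟨Q, hQ⟩ : ∃ Q : Subgroup G, Q = (P₀ : Subgroup L).map L.subtype := ⟨_, rfl⟩
  have hQinv : Inv A Q := by rw [hQ]; exact hP₀
  refine ⟨F, normalizer (Q : Set G), hFn, inv_characteristic F, hFnil, fun a g hg => ?_, fun hN => ?_, ?_⟩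
  · refine mem_normalizer_iff.2 fun y => ?_
    have e : a • g * y * (a • g)⁻¹ = a • (g * (a⁻¹ • y) * g⁻¹) := by
      rw [smul_mul', smul_mul', smul_inv', smul_inv_smul]
    rw [e]
    constructor
    · exact fun hy => hQinv a _ ((mem_normalizer_iff.1 hg _).1 (hQinv a⁻¹ y hy))
    · intro hy
      have h1 := hQinv a⁻¹ _ hy
      rw [inv_smul_smul] at h1
      have h2 := hQinv a _ ((mem_normalizer_iff.1 hg _).2 h1)
      rwa [smul_inv_smul] at h2
  · haveI : Q.Normal := normalizer_eq_top_iff.1 hN
    have hQp : IsPGroup q Q := hQ ▸ P₀.isPGroup'.map _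
    have hQF : Q ≤ F := hF ▸ le_sSup ⟨inferInstance, hQp.isNilpotent⟩
    apply hne
    rw [← map_comap_eq_self_of_surjective (QuotientGroup.mk'_surjective F) (Cfsg.pCore q (G ⧸ F)), ← hL]
    have hLF : L ≤ F := by
      have h1 : F.relIndex L ∣ Nat.card (Cfsg.pCore q (G ⧸ F)) := by
        have : F = (⊥ : Subgroup (G ⧸ F)).comap π := by rw [MonoidHom.comap_bot, QuotientGroup.ker_mk']
        conv_lhs => rw [this]
        rw [relIndex_comap, hL, map_comap_eq_self_of_surjective (QuotientGroup.mk'_surjective F), relIndex_bot_left]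
      obtain ⟨j, hj⟩ := IsPGroup.iff_card.1 (CfsgLib.HallGen.isPGroup_pCore (G := G ⧸ F) q)
      have h2 : F.relIndex L ∣ Q.relIndex L := relIndex_dvd_of_le_left L hQF
      have h3 : ¬ q ∣ Q.relIndex L := by
        show ¬ q ∣ (Q.subgroupOf L).index
        rw [hQ, subgroupOf, comap_map_eq_self_of_injective L.subtype_injective]
        exact P₀.not_dvd_index
      have h4 : (F.relIndex L).Coprime (q ^ j) := by
        exact ((hq.coprime_iff_not_dvd.2 fun h => h3 (h.trans h2)).symm).pow_right j
      exact relIndex_eq_one.1 (h4.eq_one_of_dvd (hj ▸ h1))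
    rw [eq_bot_iff]
    rintro _ ⟨x, hx, rfl⟩
    exact (QuotientGroup.eq_one_iff x).2 (hLF hx)
  · have hFQ : L ≤ F ⊔ Q := by
      have hQL : Q ≤ L := hQ ▸ map_subtype_le _
      have h1 : (F ⊔ Q).relIndex L ∣ Nat.card (Cfsg.pCore q (G ⧸ F)) := by
        refine (relIndex_dvd_of_le_left L (le_sup_left : F ≤ F ⊔ Q)).trans ?_
        have : F = (⊥ : Subgroup (G ⧸ F)).comap π := by rw [MonoidHom.comap_bot, QuotientGroup.ker_mk']
        conv_lhs => rw [this]
        rw [relIndex_comap, hL, map_comap_eq_self_of_surjective (QuotientGroup.mk'_surjective F), relIndex_bot_left]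
      obtain ⟨j, hj⟩ := IsPGroup.iff_card.1 (CfsgLib.HallGen.isPGroup_pCore (G := G ⧸ F) q)
      have h2 : (F ⊔ Q).relIndex L ∣ Q.relIndex L := relIndex_dvd_of_le_left L le_sup_right
      have h3 : ¬ q ∣ Q.relIndex L := by
        show ¬ q ∣ (Q.subgroupOf L).index
        rw [hQ, subgroupOf, comap_map_eq_self_of_injective L.subtype_injective]
        exact P₀.not_dvd_index
      have h4 : ((F ⊔ Q).relIndex L).Coprime (q ^ j) := by
        exact ((hq.coprime_iff_not_dvd.2 fun h => h3 (h.trans h2)).symm).pow_right j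
      exact relIndex_eq_one.1 (h4.eq_one_of_dvd (hj ▸ h1))
    have hF' := Sylow.normalizer_sup_eq_top P₀
    rw [← hQ] at hF'
    refine eq_top_iff.2 (hF'.ge.trans (sup_le le_sup_right ?_))
    exact hFQ.trans (sup_le le_sup_left (le_normalizer.trans le_sup_right))

/-- The series along a nilpotent normal subgroup. -/
theorem exists_ser (E : Subgroup G) [hEn : E.Normal] (hE : Inv A E) (hnil : Group.IsNilpotent E) :
    ∃ σ : Ser A G, σ.S 1 = E := by
  have hn : ∀ n, (E.lowerCentralSeries n).Normal := by
    intro n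
    induction n with
    | zero => exact hEn
    | succ n ih => rw [Subgroup.lowerCentralSeries_succ]; exact Subgroup.commutator_normal _ _
  have hi : ∀ n, Inv A (E.lowerCentralSeries n) := by
    intro n
    induction n with
    | zero => exact hE
    | succ n ih => rw [Subgroup.lowerCentralSeries_succ]; exact ih.commutator hE
  have hc : ∀ i j, ⁅E.lowerCentralSeries i, E.lowerCentralSeries j⁆ ≤ E.lowerCentralSeries (i + j + 1) := fun i j => by
    rw [← top_subtype_lowerCentralSeries E i, ← top_subtype_lowerCentralSeries E j,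
      ← top_subtype_lowerCentralSeries E (i + j + 1), ← map_commutator]
    exact map_mono (CfsgLib.Core.Assoc.lowerCentralSeries_commutator_le i j)
  refine ⟨{ S := fun n => match n with | 0 => ⊤ | n + 1 => E.lowerCentralSeries n
            zero := rfl
            anti := antitone_nat_of_succ_le fun n => ?_
            comm := fun a b => ?_
            normal := fun a => ?_
            invariant := fun a => ?_
            last := ?_ }, rfl⟩
  · cases n with
    | zero => exact le_top
    | succ n => exact E.lowerCentralSeries_antitone (Nat.le_succ n)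
  · cases a with
    | zero =>
      cases b with
      | zero => exact le_top
      | succ b =>
        rw [Nat.zero_add]
        haveI := hn b
        exact commutator_le_right _ _
    | succ a =>
      cases b with
      | zero =>
        haveI := hn a
        exact commutator_le_left _ _
      | succ b =>
        show _ ≤ E.lowerCentralSeries (a + 1 + b)
        exact (hc a b).trans (le_of_eq (by congr 1; omega))
  · cases a with
    | zero => show (⊤ : Subgroup G).Normal; infer_instance
    | succ a => exact hn a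
  · cases a with
    | zero => exact inv_top
    | succ a => exact hi a
  · obtain ⟨N, hN⟩ := (isNilpotent_iff_lowerCentralSeries E).1 hnil
    exact ⟨N + 1, hN⟩

/-- Modulo degree one the verbal subgroup comes from a supplement. -/
theorem val_le_H_one_sup (σ : Ser A G) {M : Subgroup G} (hM : σ.S 1 ⊔ M = ⊤) :
    ∀ w : CW, w.val ⊤ ≤ σ.H w 1 ⊔ w.val M
  | .leaf => hM.ge
  | .node u v => by
      haveI := σ.H_normal u 1
      haveI := σ.H_normal v 1
      haveI := σ.H_normal (.node u v) 1
      haveI := CW.val_normal (G := G) u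
      haveI := CW.val_normal (G := G) v
      refine commutator_le.2 fun g hg k hk => ?_
      obtain ⟨h, hh, g', hg', rfl⟩ := mem_sup_of_normal_left.1 (val_le_H_one_sup σ hM u hg)
      obtain ⟨h', hh', k', hk', rfl⟩ := mem_sup_of_normal_left.1 (val_le_H_one_sup σ hM v hk)
      have hR1 : ∀ x ∈ σ.H u 1, ∀ y ∈ v.val (⊤ : Subgroup G), ⁅x, y⁆ ∈ σ.H (.node u v) 1 := fun x hx y hy =>
        σ.commutator_le_H (a := 1) (b := 0) (by omega) (commutator_mem_commutator hx ((σ.H_zero v).symm ▸ hy))
      have hR2 : ∀ x ∈ u.val (⊤ : Subgroup G), ∀ y ∈ σ.H v 1, ⁅x, y⁆ ∈ σ.H (.node u v) 1 := fun x hx y hy =>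
        σ.commutator_le_H (a := 0) (b := 1) (by omega) (commutator_mem_commutator ((σ.H_zero u).symm ▸ hx) hy)
      have hkv : h' * k' ∈ v.val (⊤ : Subgroup G) := hk
      have hg'' : g' ∈ u.val (⊤ : Subgroup G) := CW.val_mono le_top u hg'
      rw [commutatorElement_mul_left_eq_conj_mul]
      refine mul_mem ?_ (mem_sup_left (hR1 h hh _ hkv))
      rw [commutatorElement_mul_right_eq_mul_conj]
      have h1 : ⁅g', h'⁆ ∈ σ.H (.node u v) 1 := hR2 g' hg'' h' hh'
      have h2 : ⁅g', k'⁆ ∈ (CW.node u v).val M := commutator_mem_commutator hg' hk'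
      -- conjugation does not matter modulo the term
      have key : ∀ x ∈ σ.H u 1 ⊔ σ.H v 1, ∀ y, y ∈ (CW.node u v).val M → ⁅x, y⁆ ∈ σ.H (.node u v) 1 := by
        intro x hx y hy
        obtain ⟨x₁, hx₁, x₂, hx₂, rfl⟩ := mem_sup_of_normal_left.1 hx
        rw [commutatorElement_mul_left_eq_conj_mul]
        have hyu : y ∈ u.val (⊤ : Subgroup G) := (CW.val_mono le_top (CW.node u v)).trans (commutator_le_left _ _) hy
        have hyv : y ∈ v.val (⊤ : Subgroup G) := (CW.val_mono le_top (CW.node u v)).trans (commutator_le_right _ _) hy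
        refine mul_mem (Normal.conj_mem ‹_› _ ?_ _) (hR1 x₁ hx₁ y hyv)
        rw [← commutatorElement_inv]
        exact inv_mem (hR2 y hyu x₂ hx₂)
      have hconj : ∀ x ∈ σ.H u 1 ⊔ σ.H v 1, ∀ y, y ∈ σ.H (.node u v) 1 ⊔ (CW.node u v).val M →
          x * y * x⁻¹ ∈ σ.H (.node u v) 1 ⊔ (CW.node u v).val M := by
        intro x hx y hy
        obtain ⟨r, hr, z, hz, rfl⟩ := mem_sup_of_normal_left.1 hy
        have e : x * (r * z) * x⁻¹ = x * r * x⁻¹ * ⁅x, z⁆ * z := by simp [commutatorElement_def, mul_assoc]
        rw [e]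
        exact mul_mem (mem_sup_left (mul_mem (Normal.conj_mem ‹_› r hr x) (key x hx z hz))) (mem_sup_right hz)
      refine hconj h (mem_sup_left hh) _ ?_
      rw [mul_assoc ⁅g', h'⁆, mul_assoc ⁅g', h'⁆]
      refine mul_mem (mem_sup_left h1) ?_
      exact hconj h' (mem_sup_right hh') _ (mem_sup_right h2)

/-- A fixed point of the verbal subgroup, up to degree one, is fixed in the verbal subgroup of a supplement. -/
theorem exists_fixed_rep (hS : Setup p A G) (σ : Ser A G) {M : Subgroup G} (hMi : Inv A M)
    (hM : σ.S 1 ⊔ M = ⊤) (w : CW) (B : Subgroup A) {x : G} (hx : x ∈ w.val ⊤ ⊓ Fx B) :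
    ∃ c ∈ w.val M ⊓ Fx B, c⁻¹ * x ∈ σ.H w 1 := by
  haveI hn := σ.H_normal w 1
  obtain ⟨h, hh, y, hy, e⟩ := mem_sup_of_normal_left.1 (val_le_H_one_sup σ hM w hx.1)
  have hWi : Inv A (w.val M) := inv_val hMi w
  obtain ⟨n, hn', hfix⟩ := exists_fix_in_coset hS ((σ.inv_H w 1).inf hWi) B (x := y) (fun b hb => by
    refine ⟨?_, (w.val M).mul_mem ((w.val M).inv_mem hy) (hWi b y hy)⟩
    have h1 : b • h * b • y = h * y := by rw [← smul_mul', e, hx.2 b hb]
    have h2 : y⁻¹ * b • y = y⁻¹ * ((b • h)⁻¹ * h) * y⁻¹⁻¹ := by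
      rw [eq_comm, inv_inv, mul_assoc, mul_assoc, ← h1, inv_mul_cancel_left]
    rw [h2]
    exact hn.conj_mem _ (mul_mem (inv_mem (σ.inv_H w 1 b h hh)) hh) _)
  refine ⟨y * n, ⟨mul_mem hy hn'.2, hfix⟩, ?_⟩
  rw [← e, mul_inv_rev, mul_assoc, ← mul_assoc y⁻¹]
  refine mul_mem (inv_mem hn'.1) ?_
  have := hn.conj_mem h hh y⁻¹
  rwa [inv_inv] at this

end tools

/-- The action on an invariant subgroup. -/
@[reducible] def subAction {G : Type u} [Group G] [MulDistribMulAction A G] {M : Subgroup G} (hM : Inv A M) :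
    MulDistribMulAction A M where
  smul a x := ⟨a • (x : G), hM a x x.2⟩
  one_smul x := Subtype.ext (one_smul A (x : G))
  mul_smul a b x := Subtype.ext (mul_smul a b (x : G))
  smul_mul a x y := Subtype.ext (smul_mul' a (x : G) y)
  smul_one a := Subtype.ext (smul_one a)

theorem map_Fx_le {G : Type u} [Group G] [MulDistribMulAction A G] {M : Subgroup G} (hM : Inv A M)
    (E : Subgroup A) :
    (letI := subAction hM; (Fx E : Subgroup M).map M.subtype) ≤ (Fx E : Subgroup G) := by
  rintro _ ⟨z, hz, rfl⟩ e he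
  exact congrArg Subtype.val (hz e he)

theorem setup_sub {G : Type u} [Group G] [MulDistribMulAction A G] (hS : Setup p A G) (M : Subgroup G) :
    Setup p A M :=
  ⟨hS.prime, hS.comm, hS.exp, fun h => hS.cop (h.trans M.card_subgroup_dvd_card)⟩

theorem gen_aux (n : ℕ) : ∀ (G : Type u) [Group G] [Finite G] [MulDistribMulAction A G],
    Setup p A G → Group.IsSolvable G → Nat.card G ≤ n → ∀ (w : CW) (B : Subgroup A), B.index ≤ p →
      w.val (⊤ : Subgroup G) ⊓ Fx B ≤ closure (pcs p A w (w.val (⊤ : Subgroup G)) B) := by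
  induction n with
  | zero =>
    intro G _ _ _ _ _ hc
    exact absurd hc (not_le.2 Nat.card_pos)
  | succ n ih =>
    intro G _ _ _ hS hsol hcard
    rcases subsingleton_or_nontrivial G with hsub | hnt
    · intro w B _ x _
      rw [Subsingleton.elim x 1]
      exact one_mem _
    obtain ⟨E, M, hEn, hEi, hEnil, hMi, hMt, hEM⟩ := exists_split hS
    obtain ⟨σ, hσ⟩ := exists_ser (A := A) E hEi hEnil
    have h0 : ∀ (w : CW) (B : Subgroup A), B.index ≤ p → ∀ x ∈ σ.H w 0 ⊓ Fx B,
        ∃ c ∈ closure (pcs p A w (σ.H w 0) B), c⁻¹ * x ∈ σ.H w 1 := by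
      intro w B hB x hx
      rw [σ.H_zero] at hx ⊢
      obtain ⟨c, hc, hcx⟩ := exists_fixed_rep hS σ hMi (hσ ▸ hEM) w B hx
      refine ⟨c, ?_, hcx⟩
      letI := subAction hMi
      have hlt : Nat.card M ≤ n := by
        refine Nat.lt_succ_iff.1 (lt_of_lt_of_le ?_ hcard)
        rw [← card_top (G := G)]
        exact lt_of_le_of_ne (Nat.le_of_dvd Nat.card_pos (by simpa using M.card_subgroup_dvd_card))
          fun e => hMt (eq_top_of_card_eq M (e.trans card_top))
      obtain ⟨y, hy, rfl⟩ : c ∈ (w.val (⊤ : Subgroup M)).map M.subtype := by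
        rw [CW.map_val, ← MonoidHom.range_eq_map, range_subtype]; exact hc.1
      have hyB : y ∈ (Fx B : Subgroup M) := fun e he => Subtype.ext (hc.2 e he)
      have h1 := mem_map_of_mem M.subtype (ih M (setup_sub hS M) inferInstance hlt w B hB ⟨hy, hyB⟩)
      rw [MonoidHom.map_closure] at h1
      refine closure_mono ?_ h1
      rintro _ ⟨z, ⟨hz1, hz2, D, hD, hzD⟩, rfl⟩
      have hz1' : (z : G) ∈ (w.val (⊤ : Subgroup M)).map M.subtype := mem_map_of_mem _ hz1
      rw [CW.map_val, ← MonoidHom.range_eq_map, range_subtype] at hz1'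
      have hzD' : (z : G) ∈ (w.val (Fx D : Subgroup M)).map M.subtype := mem_map_of_mem _ hzD
      rw [CW.map_val] at hzD'
      exact ⟨CW.val_mono le_top w hz1', map_Fx_le hMi B ⟨z, hz2, rfl⟩, D, hD, CW.val_mono (map_Fx_le hMi D) w hzD'⟩
    intro w B hB
    have := gen_step hS σ h0 w 0 B hB
    rwa [σ.H_zero] at this

variable {G : Type u} [Group G] [Finite G] [MulDistribMulAction A G]

/-- The fixed points in a verbal subgroup are generated by pieces. -/
theorem gen (hS : Setup p A G) (hsol : Group.IsSolvable G) (w : CW) (B : Subgroup A) (hB : B.index ≤ p) :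
    w.val (⊤ : Subgroup G) ⊓ Fx B ≤ closure (pcs p A w (w.val (⊤ : Subgroup G)) B) :=
  gen_aux _ G hS hsol le_rfl w B hB

/-- The hypothesis on the centralisers. -/
def NilHyp (A : Type v) [Group A] [MulDistribMulAction A G] (w : CW) : Prop :=
  ∀ a : A, a ≠ 1 → Group.IsNilpotent ↥(w.val (Fx (zpowers a) : Subgroup G))

/-- An operator fixing the fixed points of two large subgroups. -/
theorem exists_common (hS : Setup p A G) {D B : Subgroup A} {m : ℕ} (hD : D.index ≤ p ^ m) (hB : B.index ≤ p)
    (hA : p ^ (m + 2) ≤ Nat.card A) : ∃ a ∈ D ⊓ B, a ≠ 1 := by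
  rcases (D ⊓ B).bot_or_exists_ne_one with e | h
  swap
  · obtain ⟨a, ha, h1⟩ := h
    exact ⟨a, ha, h1⟩
  have h1 := (index_inf_le (H := D) (K := B)).trans (Nat.mul_le_mul hD hB)
  rw [e, index_bot, ← pow_succ] at h1
  exact absurd (hA.trans h1) (not_le.2 (Nat.pow_lt_pow_right hS.prime.one_lt (by omega)))

theorem isNilpotent_val_aux (n : ℕ) : ∀ (G : Type u) [Group G] [Finite G] [MulDistribMulAction A G],
    Setup p A G → Group.IsSolvable G → Nat.card G ≤ n → ∀ w : CW, p ^ (w.leaves + 2) ≤ Nat.card A →
      NilHyp (G := G) A w → Group.IsNilpotent ↥(w.val (⊤ : Subgroup G)) := by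
  induction n with
  | zero =>
    intro G _ _ _ _ _ hc
    exact absurd hc (not_le.2 Nat.card_pos)
  | succ n ih =>
    intro G _ _ _ hS hsol hc w hA hhyp
    classical
    rcases subsingleton_or_nontrivial G with hsub | hnt
    · infer_instance
    obtain ⟨E, M, hEn, hEi, hEnil, hMi, hMt, hEM⟩ := exists_split hS
    obtain ⟨σ, hσ⟩ := exists_ser (A := A) E hEi hEnil
    obtain ⟨W, hW⟩ : ∃ W, W = w.val M := ⟨_, rfl⟩
    have hKW : w.val ⊤ ≤ E ⊔ W := by
      refine (val_le_H_one_sup σ (hσ ▸ hEM) w).trans (sup_le ?_ (hW ▸ le_sup_right))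
      exact (σ.H_le_S w 1).trans (hσ ▸ le_sup_left)
    letI := subAction hMi
    have hlt : Nat.card M ≤ n := by
      refine Nat.lt_succ_iff.1 (lt_of_lt_of_le ?_ hc)
      rw [← card_top (G := G)]
      exact lt_of_le_of_ne (Nat.le_of_dvd Nat.card_pos (by simpa using M.card_subgroup_dvd_card))
        fun e => hMt (eq_top_of_card_eq M (e.trans card_top))
    have hMval : (w.val (⊤ : Subgroup M)).map M.subtype = W := by
      rw [hW, CW.map_val, ← MonoidHom.range_eq_map, range_subtype]
    haveI hWnil : Group.IsNilpotent W := by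
      have h1 := ih M (setup_sub hS M) inferInstance hlt w hA (fun a ha => by
        haveI := hhyp a ha
        have hle : (w.val (Fx (zpowers a) : Subgroup M)).map M.subtype ≤ w.val (Fx (zpowers a) : Subgroup G) := by
          rw [CW.map_val]; exact CW.val_mono (map_Fx_le hMi _) w
        haveI : Group.IsNilpotent ↥((w.val (Fx (zpowers a) : Subgroup M)).map M.subtype) :=
          Group.nilpotent_of_mulEquiv (subgroupOfEquivOfLe hle)
        exact Group.nilpotent_of_mulEquiv
          ((w.val (Fx (zpowers a) : Subgroup M)).equivMapOfInjective M.subtype M.subtype_injective).symm)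
      haveI := h1
      rw [← hMval]
      exact Group.nilpotent_of_mulEquiv
        ((w.val (⊤ : Subgroup M)).equivMapOfInjective M.subtype M.subtype_injective)
    have hWinv : Inv A W := hW ▸ inv_val hMi w
    have hWgen : W ≤ closure {x | x ∈ W ∧ Piece p A w x} := by
      rw [hW]
      refine le_of_hyperplanes hS (inv_val hMi w) fun B hB x hx => ?_
      obtain ⟨y, hy, rfl⟩ : x ∈ (w.val (⊤ : Subgroup M)).map M.subtype := by rw [hMval, hW]; exact hx.1
      have hyB : y ∈ (Fx B : Subgroup M) := fun e he => Subtype.ext (hx.2 e he)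
      have h1 := mem_map_of_mem M.subtype (gen (setup_sub hS M) inferInstance w B hB ⟨hy, hyB⟩)
      rw [MonoidHom.map_closure] at h1
      refine closure_mono ?_ h1
      rintro _ ⟨z, ⟨hz1, hz2, D, hD, hzD⟩, rfl⟩
      have hz1' : (z : G) ∈ (w.val (⊤ : Subgroup M)).map M.subtype := mem_map_of_mem _ hz1
      have hzD' : (z : G) ∈ (w.val (Fx D : Subgroup M)).map M.subtype := mem_map_of_mem _ hzD
      rw [CW.map_val] at hzD'
      exact ⟨by rwa [← hW, ← hMval], D, hD, CW.val_mono (map_Fx_le hMi D) w hzD'⟩
    -- elements of `W` of order prime to `r` centralise the `r`-core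
    have hcent : ∀ r : ℕ, r.Prime → ∀ y ∈ W, (orderOf y).Coprime r →
        y ∈ centralizer (Cfsg.pCore r G : Set G) := by
      intro r hr
      haveI := Fact.mk hr
      obtain ⟨R, hR⟩ : ∃ R, R = Cfsg.pCore r G := ⟨_, rfl⟩
      rw [← hR]
      haveI hRc : R.Characteristic := hR ▸ CfsgLib.Components.pCore_characteristic r
      have hRp : IsPGroup r R := hR ▸ CfsgLib.HallGen.isPGroup_pCore r
      obtain ⟨Z, hZ⟩ : ∃ Z : Subgroup W, Z = (centralizer (R : Set G)).subgroupOf W := ⟨_, rfl⟩
      haveI : Z.Normal := by rw [hZ]; exact Normal.subgroupOf inferInstance _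
      let P : Sylow r W := default
      haveI : (P : Subgroup W).Normal := Sylow.normal_of_normalizerCondition
        (fun H hH => normalizerCondition_of_isNilpotent H hH) P
      have hZP : (⊤ : Subgroup W) ≤ Z ⊔ P := by
        rw [← map_le_map_iff_of_injective W.subtype_injective, ← MonoidHom.range_eq_map, range_subtype]
        refine hWgen.trans ((closure_le _).2 ?_)
        rintro x ⟨hxW, D, hD, hxD⟩
        obtain ⟨e, t, ht, het⟩ := Nat.exists_eq_pow_mul_and_not_dvd (orderOf_pos x).ne' r hr.ne_one
        have hcop : (r ^ e).Coprime t := (hr.coprime_iff_not_dvd.2 ht).pow_left e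
        have hy : x ^ (r ^ e) ∈ centralizer (R : Set G) := by
          have hot : (x ^ (r ^ e)) ^ t = 1 := by rw [← pow_mul, ← het, pow_orderOf_eq_one]
          have hle : R ≤ centralizer ({x ^ (r ^ e)} : Set G) := by
            refine le_of_hyperplanes hS (inv_characteristic R) fun B hB v hv => ?_
            obtain ⟨a, ha, ha1⟩ := exists_common hS hD hB hA
            haveI := hhyp a ha1
            obtain ⟨Wa, hWa⟩ : ∃ Wa, Wa = w.val (Fx (zpowers a) : Subgroup G) := ⟨_, rfl⟩
            haveI hWan : Group.IsNilpotent Wa := hWa ▸ hhyp a ha1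
            have hvC : v ∈ (Fx (zpowers a) : Subgroup G) := Fx_anti (zpowers_le.2 ha.2) hv.2
            have hyA : x ^ (r ^ e) ∈ Wa := hWa ▸ pow_mem (CW.val_mono (Fx_anti (zpowers_le.2 ha.1)) w hxD) _
            obtain ⟨y, hydef⟩ : ∃ y, y = x ^ (r ^ e) := ⟨_, rfl⟩
            rw [← hydef] at hyA hot ⊢
            have hconj : v * y * v⁻¹ ∈ Wa := by
              rw [hWa] at hyA ⊢
              refine CW.conj_val ?_ w hyA
              refine le_antisymm ?_ fun z hz => ⟨v⁻¹ * z * v,
                mul_mem (mul_mem (inv_mem hvC) hz) hvC, by simp [mul_assoc]⟩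
              rintro _ ⟨z, hz, rfl⟩
              exact mul_mem (mul_mem hvC hz) (inv_mem hvC)
            have hcW : ⁅v, y⁆ ∈ Wa := mul_mem hconj (inv_mem hyA)
            have hcR : ⁅v, y⁆ ∈ R := commutator_le_left R ⊤ (commutator_mem_commutator hv.1 (mem_top y))
            obtain ⟨j, hj⟩ := hRp ⟨_, hcR⟩
            have hoc : orderOf ⁅v, y⁆ ∣ r ^ j := orderOf_dvd_of_pow_eq_one (congrArg Subtype.val hj)
            have hco : (orderOf ⁅v, y⁆).Coprime t := ((hr.coprime_iff_not_dvd.2 ht).pow_left j).coprime_dvd_left hoc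
            have hcomm : Commute ⁅v, y⁆ y := by
              have hcoe : ∀ g : Wa, orderOf g = orderOf (g : G) := fun g => (Subgroup.orderOf_coe g).symm
              have := CfsgLib.SolvStruct.commute_of_coprime_orderOf_of_isNilpotent (N := Wa)
                (x := ⟨_, hcW⟩) (y := ⟨y, hyA⟩) (by
                  rw [hcoe, hcoe]
                  exact hco.coprime_dvd_right (orderOf_dvd_of_pow_eq_one hot))
              exact congrArg Subtype.val this
            have h1 : ⁅v, y⁆ ^ t = 1 := by
              have e1 : (⁅v, y⁆ * y) ^ t = 1 := by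
                rw [show ⁅v, y⁆ * y = v * y * v⁻¹ by simp [commutatorElement_def], conj_pow, hot]
                group
              rwa [hcomm.mul_pow, hot, mul_one] at e1
            have h2 : ⁅v, y⁆ = 1 := by
              have := pow_gcd_eq_one.2 ⟨pow_orderOf_eq_one ⁅v, y⁆, h1⟩
              rwa [hco.gcd_eq_one, pow_one] at this
            exact mem_centralizer_singleton_iff.2 (commutatorElement_eq_one_iff_mul_comm.1 h2)
          exact mem_centralizer_iff.2 fun g hg => mem_centralizer_singleton_iff.1 (hle hg)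
        obtain ⟨u, v, huv⟩ : ∃ u v : ℤ, u * (r ^ e : ℕ) + v * (t : ℕ) = 1 :=
          ⟨Nat.gcdA (r ^ e) t, Nat.gcdB (r ^ e) t, by
            have := Nat.gcd_eq_gcd_ab (r ^ e) t
            rw [hcop.gcd_eq_one] at this
            push_cast at this ⊢
            linarith⟩
        obtain ⟨xW, hxW'⟩ : ∃ z : W, z = ⟨x, hxW⟩ := ⟨_, rfl⟩
        refine ⟨xW, ?_, by rw [hxW']; rfl⟩
        have e1 : xW = (xW ^ (r ^ e)) ^ u * (xW ^ t) ^ v := by
          rw [← zpow_natCast, ← zpow_natCast, ← zpow_mul, ← zpow_mul, ← zpow_add, mul_comm, mul_comm (t : ℤ),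
            huv, zpow_one]
        rw [e1]
        refine mul_mem (zpow_mem (mem_sup_left ?_) _) (zpow_mem (mem_sup_right ?_) _)
        · rw [hZ, mem_subgroupOf, hxW']
          exact hy
        · have hp' : IsPGroup r (zpowers (xW ^ t)) := by
            refine IsPGroup.iff_orderOf.2 fun g => ?_
            obtain ⟨i, hi⟩ := g.2
            have hd : orderOf (g : W) ∣ r ^ e := by
              rw [← hi]
              refine orderOf_dvd_of_pow_eq_one ?_
              have h3 : (xW ^ t) ^ (r ^ e) = 1 := by
                refine Subtype.ext ?_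
                rw [← pow_mul, SubgroupClass.coe_pow, hxW']
                show x ^ _ = 1
                rw [mul_comm, ← het, pow_orderOf_eq_one]
              rw [← zpow_natCast, ← zpow_mul, mul_comm, zpow_mul, zpow_natCast, h3, one_zpow]
            rw [Subgroup.orderOf_coe] at hd
            obtain ⟨i', -, hi'⟩ := (Nat.dvd_prime_pow hr).1 hd
            exact ⟨i', hi'⟩
          obtain ⟨Q, hQ⟩ := hp'.exists_le_sylow
          haveI := Sylow.unique_of_normal P inferInstance
          exact (Subsingleton.elim Q P ▸ hQ) (mem_zpowers _)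
      intro y hy hcopy
      have hidx : Z.index ∣ Nat.card (P : Subgroup W) := by
        have h1 : Z.relIndex (↑P ⊔ Z) = Z.relIndex ↑P := relIndex_sup_right _ _
        rw [sup_comm, eq_top_iff.2 hZP, relIndex_top_right] at h1
        rw [h1]
        exact relIndex_dvd_card ..
      obtain ⟨j, hj⟩ := IsPGroup.iff_card.1 P.isPGroup'
      have h1 := Z.pow_index_mem (⟨y, hy⟩ : W)
      have hco : (orderOf (⟨y, hy⟩ : W)).Coprime Z.index := by
        rw [← Subgroup.orderOf_coe]
        exact (hcopy.pow_right j).coprime_dvd_right (hj ▸ hidx)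
      obtain ⟨i, hi⟩ := exists_pow_eq_self_of_coprime hco.symm
      have h2 := Z.pow_mem h1 i
      rw [hi, hZ, mem_subgroupOf] at h2
      exact h2
    -- the parts for distinct primes commute
    let I := {r : ℕ // r ∈ (Nat.card G).primeFactors}
    haveI hfact : ∀ r : I, Fact (r : ℕ).Prime := fun r => ⟨Nat.prime_of_mem_primeFactors r.2⟩
    let S : I → Subgroup G := fun r => ((default : Sylow (r : ℕ) W) : Subgroup W).map W.subtype
    let C : I → Subgroup G := fun r => Cfsg.pCore (r : ℕ) G ⊔ S r
    have hne : ∀ i j : I, i ≠ j → (i : ℕ).Coprime j := fun i j h =>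
      (Nat.coprime_primes (hfact i).out (hfact j).out).2 fun e => h (Subtype.ext e)
    have hSW : ∀ i, S i ≤ W := fun i => map_subtype_le _
    have hSo : ∀ (i : I) (x : G), x ∈ S i → ∃ e, orderOf x = (i : ℕ) ^ e := fun i x hx => by
      obtain ⟨e, he⟩ := IsPGroup.iff_orderOf.1 ((default : Sylow (i : ℕ) W).isPGroup'.map W.subtype) ⟨x, hx⟩
      exact ⟨e, by rw [← he, Subgroup.orderOf_mk]⟩
    have hOS : ∀ i j : I, i ≠ j → ∀ x y : G, x ∈ Cfsg.pCore (i : ℕ) G → y ∈ S j → Commute x y := by
      intro i j hij x y hx hy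
      obtain ⟨e, he⟩ := hSo j y hy
      exact mem_centralizer_iff.1 (hcent i (hfact i).out y (hSW j hy) (he ▸ (hne j i (Ne.symm hij)).pow_left e)) x hx
    have hcomm : Pairwise fun i j : I => ∀ x y : G, x ∈ C i → y ∈ C j → Commute x y := by
      intro i j hij
      have hCij : C i ≤ centralizer (C j : Set G) := by
        refine sup_le ?_ ?_ <;> rw [le_centralizer_iff] <;> refine sup_le ?_ ?_
        · intro y hy
          refine mem_centralizer_iff.2 fun x hx => ?_
          exact Subgroup.commute_of_normal_of_disjoint _ _ (CfsgLib.HallGen.pCore_normal' _)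
            (CfsgLib.HallGen.pCore_normal' _) (IsPGroup.disjoint_of_ne _ _ (fun h => hij (Subtype.ext h)) _ _
              (CfsgLib.HallGen.isPGroup_pCore _) (CfsgLib.HallGen.isPGroup_pCore _)) x y hx hy
        · intro y hy
          exact mem_centralizer_iff.2 fun x hx => hOS i j hij x y hx hy
        · intro y hy
          exact mem_centralizer_iff.2 fun x hx => (hOS j i (Ne.symm hij) y x hy hx).symm
        · intro y hy
          refine mem_centralizer_iff.2 fun x hx => ?_
          obtain ⟨e, he⟩ := hSo i x hx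
          obtain ⟨f, hf⟩ := hSo j y hy
          have := CfsgLib.SolvStruct.commute_of_coprime_orderOf_of_isNilpotent (N := W)
            (x := ⟨x, hSW i hx⟩) (y := ⟨y, hSW j hy⟩) (by
              rw [Subgroup.orderOf_mk, Subgroup.orderOf_mk, he, hf]
              exact ((hne i j hij).pow_left e).pow_right f)
          exact congrArg Subtype.val this
      intro x y hx hy
      exact (mem_centralizer_iff.1 (hCij hx) y hy).symm
    haveI : ∀ i, Group.IsNilpotent (C i) := fun i => by
      haveI := CfsgLib.HallGen.pCore_normal' (G := G) (i : ℕ)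
      exact ((CfsgLib.HallGen.isPGroup_pCore _).to_sup_of_normal_left
        ((default : Sylow (i : ℕ) W).isPGroup'.map _)).isNilpotent
    haveI hnil : Group.IsNilpotent (Subgroup.noncommPiCoprod hcomm).range :=
      Group.nilpotent_of_surjective _ (MonoidHom.rangeRestrict_surjective _)
    have hle : w.val ⊤ ≤ (Subgroup.noncommPiCoprod hcomm).range := by
      rw [Subgroup.noncommPiCoprod_range]
      refine hKW.trans (sup_le (fun x hx => ?_) fun x hx => ?_) <;>
        refine CfsgLib.HallGen.mem_of_primePow_parts _ x fun y hy r k hr ho => ?_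
      all_goals
        by_cases hk : k = 0
        · subst hk
          rw [pow_zero, orderOf_eq_one_iff] at ho
          rw [ho]; exact one_mem _
        haveI := Fact.mk hr
        have hrI : r ∈ (Nat.card G).primeFactors := Nat.mem_primeFactors.2
          ⟨hr, ((dvd_pow_self r hk).trans (ho ▸ dvd_rfl)).trans (orderOf_dvd_natCard y), Nat.card_pos.ne'⟩
      · exact le_iSup C ⟨r, hrI⟩ (mem_sup_left (CfsgLib.HallGen.mem_pCore_of_mem_nilpotent_normal hEn hEnil
          ((zpowers_le.2 hx) hy) ho))
      · refine le_iSup C ⟨r, hrI⟩ (mem_sup_right ?_)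
        have hyW : y ∈ W := (zpowers_le.2 hx) hy
        refine ⟨⟨y, hyW⟩, ?_, rfl⟩
        obtain ⟨Q, hQ⟩ := (CfsgLib.HallGen.isPGroup_zpowers (p := r) (k := k)
          (x := (⟨y, hyW⟩ : W)) (by rw [Subgroup.orderOf_mk, ho])).exists_le_sylow
        haveI hnm : ((default : Sylow r W) : Subgroup W).Normal := Sylow.normal_of_normalizerCondition
          (fun H hH => normalizerCondition_of_isNilpotent H hH) _
        haveI := Sylow.unique_of_normal (default : Sylow r W) hnm
        exact (Subsingleton.elim Q default ▸ hQ) (mem_zpowers _)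
    exact Group.nilpotent_of_mulEquiv (subgroupOfEquivOfLe hle)

/-- The verbal subgroup is nilpotent. -/
theorem isNilpotent_val (hS : Setup p A G) (hsol : Group.IsSolvable G) (w : CW)
    (hA : p ^ (w.leaves + 2) ≤ Nat.card A) (h : NilHyp (G := G) A w) :
    Group.IsNilpotent ↥(w.val (⊤ : Subgroup G)) :=
  isNilpotent_val_aux _ G hS hsol le_rfl w hA h

/-- Solvability from the nilpotency hypothesis. -/
theorem isSolvable_of_nilHyp (hS : Setup p A G) (w : CW) (h3 : p ^ 3 ≤ Nat.card A) (h : NilHyp (G := G) A w) :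
    Group.IsSolvable G :=
  isSolvable_of_fix hS h3 fun a ha => by
    haveI := h a ha
    exact CW.isSolvable_of_val _ w inferInstance

end CfsgLib.HallGen.RankWord
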