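import Cfsg.Agent.Lib.Core.GradedLie

/-!
# Collecting in graded Lie rings with boundedly nilpotent homogeneous parts

* `Frame`: a Lie ring with degrees, operators and finitely many grades
* `Frame.lowerBound_of_derived`: solvable homogeneous subrings are nilpotent
* `Frame.nil_of_derived`: solvable homogeneous subrings act nilpotently
-/

set_option autoImplicit false
set_option linter.all false

namespace CfsgLib.HallGen.RankWord

open CfsgLib.Core.HKK

variable {L : Type*} [LieRing L]

/-- Iterated brackets of a subgroup with another one. -/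
def iterL (V U : AddSubgroup L) : ℕ → AddSubgroup L
  | 0 => V
  | n + 1 => br (iterL V U n) U

theorem iterL_mono {V V' U U' : AddSubgroup L} (hV : V ≤ V') (hU : U ≤ U') :
    ∀ n, iterL V U n ≤ iterL V' U' n
  | 0 => hV
  | n + 1 => br_mono (iterL_mono hV hU n) hU

theorem iterL_add (V U : AddSubgroup L) (a : ℕ) : ∀ b, iterL V U (a + b) = iterL (iterL V U a) U b
  | 0 => rfl
  | b + 1 => by
      show br (iterL V U (a + b)) U = br _ U
      rw [iterL_add V U a b]

theorem iterL_stable {V U : AddSubgroup L} (h : br V U ≤ V) : ∀ n, iterL V U n ≤ V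
  | 0 => le_rfl
  | n + 1 => (br_mono (iterL_stable h n) le_rfl).trans h

theorem iterL_succ_le {V U : AddSubgroup L} (h : br V U ≤ V) : ∀ n, iterL V U (n + 1) ≤ iterL V U n
  | 0 => h
  | n + 1 => br_mono (iterL_succ_le h n) le_rfl

theorem C_eq_iterL : ∀ n, (C n : AddSubgroup L) = iterL ⊤ ⊤ n
  | 0 => rfl
  | n + 1 => by show br (C n) ⊤ = br _ ⊤; rw [C_eq_iterL n]

theorem br_sup_le {A B U W : AddSubgroup L} (hA : br A U ≤ W) (hB : br B U ≤ W) : br (A ⊔ B) U ≤ W :=
  br_le fun x hx y hy => by
    obtain ⟨a, ha, b, hb, rfl⟩ := AddSubgroup.mem_sup.1 hx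
    rw [add_lie]
    exact add_mem (hA (mem_br ha hy)) (hB (mem_br hb hy))

theorem br_comm (A B : AddSubgroup L) : br A B ≤ br B A :=
  br_le fun a ha b hb => by rw [← lie_skew]; exact neg_mem (mem_br hb ha)

/-- Iterated bracket with a list. -/
def appL {X : Type*} (f : X → L) (m : L) (l : List X) : L := l.foldl (fun y e => ⁅y, f e⁆) m

theorem appL_append {X : Type*} (f : X → L) (m : L) (l l' : List X) :
    appL f m (l ++ l') = appL f (appL f m l) l' :=
  List.foldl_append

theorem appL_sub {X : Type*} (f : X → L) :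
    ∀ (l : List X) (a b : L), appL f (a - b) l = appL f a l - appL f b l := by
  intro l
  induction l with
  | nil => intro a b; rfl
  | cons e l ih => intro a b; show appL f ⁅a - b, f e⁆ l = _; rw [sub_lie, ih]; rfl

theorem appL_mem {X : Type*} (f : X → L) {V U : AddSubgroup L} (hV : br V U ≤ V) :
    ∀ (l : List X) {x : L}, x ∈ V → (∀ e ∈ l, f e ∈ U) → appL f x l ∈ V := by
  intro l
  induction l with
  | nil => intro x hx _; exact hx
  | cons e l ih =>
    intro x hx hl
    exact ih (hV (mem_br hx (hl e (List.mem_cons_self ..)))) fun e' he' => hl e' (List.mem_cons_of_mem _ he')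

/-- A Lie ring with degrees, operators and grades. -/
structure Frame (L : Type*) [LieRing L] (ι α : Type*) where
  deg : ℕ → AddSubgroup L
  hom : ι → ℕ → AddSubgroup L
  act : α → L →+ L
  N : ℕ
  deg_zero : deg 0 = ⊥
  deg_lie : ∀ {i j x y}, x ∈ deg i → y ∈ deg j → ⁅x, y⁆ ∈ deg (i + j)
  top_homog : (⊤ : AddSubgroup L) ≤ AddSubgroup.closure {x | ∃ s, x ∈ deg s}
  hom_le : ∀ i s, hom i s ≤ deg s
  act_lie : ∀ a x y, act a ⁅x, y⁆ = ⁅act a x, act a y⁆
  act_deg : ∀ a s, ∀ x ∈ deg s, act a x ∈ deg s
  split : ∀ s (X : AddSubgroup L), X ≤ deg s → (∀ a, ∀ x ∈ X, act a x ∈ X) →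
    X ≤ AddSubgroup.closure {x | x ∈ X ∧ ∃ i, x ∈ hom i s}
  star : ∀ (i : ι) (s : ℕ) (v : L), v ∈ deg s → ∀ l : List (ℕ × L), (∀ e ∈ l, e.2 ∈ hom i e.1) →
    N ≤ l.length → (l.map Prod.fst).sum < s → appL Prod.snd v l = 0

namespace Frame

variable {ι α : Type*} (F : Frame L ι α)

/-- Invariant and spanned by elements having a degree. -/
structure Good (U : AddSubgroup L) : Prop where
  homog : U ≤ AddSubgroup.closure {x | x ∈ U ∧ ∃ s, x ∈ F.deg s}
  invariant : ∀ a, ∀ x ∈ U, F.act a x ∈ U

theorem good_top : F.Good ⊤ :=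
  ⟨fun x hx => by
      refine AddSubgroup.closure_mono ?_ (F.top_homog hx)
      exact fun y hy => ⟨AddSubgroup.mem_top y, hy⟩,
    fun _ _ _ => AddSubgroup.mem_top _⟩

theorem good_bot : F.Good ⊥ :=
  ⟨bot_le, fun a x hx => by rw [AddSubgroup.mem_bot.1 hx, map_zero]; exact zero_mem _⟩

theorem good_sup {U V : AddSubgroup L} (hU : F.Good U) (hV : F.Good V) : F.Good (U ⊔ V) := by
  refine ⟨sup_le (hU.homog.trans (AddSubgroup.closure_mono fun x hx => ⟨AddSubgroup.mem_sup_left hx.1, hx.2⟩))
    (hV.homog.trans (AddSubgroup.closure_mono fun x hx => ⟨AddSubgroup.mem_sup_right hx.1, hx.2⟩)), ?_⟩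
  intro a x hx
  obtain ⟨u, hu, v, hv, rfl⟩ := AddSubgroup.mem_sup.1 hx
  rw [map_add]
  exact AddSubgroup.mem_sup.2 ⟨_, hU.invariant a u hu, _, hV.invariant a v hv, rfl⟩

theorem good_br {U V : AddSubgroup L} (hU : F.Good U) (hV : F.Good V) : F.Good (br U V) := by
  refine ⟨br_le fun u hu v hv => closure_bracket ?_ (hU.homog hu) (hV.homog hv), fun a => ?_⟩
  · rintro s ⟨hs, i, hi⟩ t ⟨ht, j, hj⟩
    exact AddSubgroup.subset_closure ⟨mem_br hs ht, i + j, F.deg_lie hi hj⟩
  · have h : br U V ≤ (br U V).comap (F.act a) := br_le fun u hu v hv => by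
      rw [AddSubgroup.mem_comap, F.act_lie]
      exact mem_br (hU.invariant a u hu) (hV.invariant a v hv)
    exact fun x hx => h hx

theorem good_iterL {V U : AddSubgroup L} (hV : F.Good V) (hU : F.Good U) : ∀ n, F.Good (iterL V U n)
  | 0 => hV
  | n + 1 => F.good_br (good_iterL hV hU n) hU

theorem good_D {U : AddSubgroup L} (hU : F.Good U) : ∀ n, F.Good (D U n)
  | 0 => hU
  | n + 1 => F.good_br (good_D hU n) (good_D hU n)

theorem full {U : AddSubgroup L} (hU : F.Good U) :
    U ≤ AddSubgroup.closure {x | x ∈ U ∧ ∃ i s, x ∈ F.hom i s} := by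
  refine hU.homog.trans ((AddSubgroup.closure_le _).2 ?_)
  rintro x ⟨hx, s, hs⟩
  refine AddSubgroup.closure_mono ?_
    (F.split s (U ⊓ F.deg s) inf_le_right (fun a y hy => ⟨hU.invariant a y hy.1, F.act_deg a s y hy.2⟩) ⟨hx, hs⟩)
  exact fun y hy => ⟨hy.1.1, hy.2.choose, s, hy.2.choose_spec⟩

theorem appL_deg : ∀ (l : List (ι × ℕ × L)) {x : L} {s : ℕ}, x ∈ F.deg s → (∀ e ∈ l, e.2.2 ∈ F.deg e.2.1) →
    appL (fun e => e.2.2) x l ∈ F.deg (s + (l.map fun e => e.2.1).sum) := by
  intro l
  induction l with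
  | nil => intro x s hx _; simpa [appL] using hx
  | cons e l ih =>
    intro x s hx hl
    rw [List.map_cons, List.sum_cons, ← Nat.add_assoc]
    exact ih (F.deg_lie hx (hl e (List.mem_cons_self ..))) fun e' he' => hl e' (List.mem_cons_of_mem _ he')

/-- The number of brackets in one collecting step. -/
def width [Fintype ι] : ℕ := Fintype.card ι * (2 * F.N) + 1

variable [Fintype ι]

/-- One collecting step. -/
theorem step {F₀ F₁ U X X' : AddSubgroup L} (hF₀ : F.Good F₀) (hX : F.Good X)
    (hF₀U : F₀ ≤ U) (hFF : br F₀ F₀ ≤ F₁) (hXU : br X U ≤ X) (hX'U : br X' U ≤ X') (hXF : br X F₁ ≤ X') :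
    iterL X F₀ F.width ≤ X' := by
  classical
  -- the permutations agree modulo the next term
  have hswap : ∀ l l' : List (ι × ℕ × L), l.Perm l' → ∀ x ∈ X, (∀ e ∈ l, e.2.2 ∈ F₀) →
      appL (fun e => e.2.2) x l - appL (fun e => e.2.2) x l' ∈ X' := by
    intro l l' hperm
    induction hperm with
    | nil => intro x _ _; rw [sub_self]; exact zero_mem _
    | @cons e l₁ l₂ _ ihp =>
      intro x hx hl
      exact ihp _ (hXU (mem_br hx (hF₀U (hl e (List.mem_cons_self ..))))) fun e' he' =>
        hl e' (List.mem_cons_of_mem _ he')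
    | @swap e f l₁ =>
      intro x hx hl
      show appL (fun e : ι × ℕ × L => e.2.2) ⁅⁅x, f.2.2⁆, e.2.2⁆ l₁ -
        appL (fun e : ι × ℕ × L => e.2.2) ⁅⁅x, e.2.2⁆, f.2.2⁆ l₁ ∈ X'
      rw [← appL_sub, ← lie_lie_right]
      exact appL_mem (fun e : ι × ℕ × L => e.2.2) hX'U l₁
        (hXF (mem_br hx (hFF (mem_br (hl f (List.mem_cons_self ..))
          (hl e (List.mem_cons_of_mem _ (List.mem_cons_self ..)))))))
        fun e' he' => hF₀U (hl e' (List.mem_cons_of_mem _ (List.mem_cons_of_mem _ he')))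
    | @trans l₁ l₂ l₃ h12 _ ih12 ih23 =>
      intro x hx hl
      have := add_mem (ih12 x hx hl) (ih23 x hx fun e he => hl e (h12.mem_iff.mpr he))
      rwa [sub_add_sub_cancel] at this
  have hspan : ∀ r, iterL X F₀ r ≤ AddSubgroup.closure {z | ∃ (x : L) (s : ℕ) (l : List (ι × ℕ × L)),
      x ∈ X ∧ x ∈ F.deg s ∧ l.length = r ∧ (∀ e ∈ l, e.2.2 ∈ F₀ ∧ e.2.2 ∈ F.hom e.1 e.2.1) ∧
        appL (fun e => e.2.2) x l = z} := by
    intro r
    induction r with
    | zero =>
      exact hX.homog.trans (AddSubgroup.closure_mono fun z hz =>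
        ⟨z, hz.2.choose, [], hz.1, hz.2.choose_spec, rfl, by simp, rfl⟩)
    | succ r ihr =>
      refine br_le fun y hy u hu => closure_bracket ?_ (ihr hy) (F.full hF₀ hu)
      rintro _ ⟨x, s, l, hx, hs, hl1, hl2, rfl⟩ t ⟨ht, i, d, htd⟩
      refine AddSubgroup.subset_closure ⟨x, s, l ++ [(i, d, t)], hx, hs, by simp [hl1], ?_, ?_⟩
      · intro e he
        rcases List.mem_append.1 he with he | he
        · exact hl2 e he
        · rw [List.mem_singleton.1 he]; exact ⟨ht, htd⟩
      · rw [appL_append]; rfl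
  refine (hspan _).trans ((AddSubgroup.closure_le _).2 ?_)
  rintro _ ⟨x, s, l, hx, hs, hlen, hl, rfl⟩
  rcases Nat.eq_zero_or_pos s with rfl | hs0
  · rw [F.deg_zero, AddSubgroup.mem_bot] at hs
    subst hs
    have h0 : ∀ l : List (ι × ℕ × L), appL (fun e => e.2.2) (0 : L) l = 0 := fun l => by
      have := appL_sub (fun e : ι × ℕ × L => e.2.2) l (0 : L) 0
      rwa [sub_self, sub_self] at this
    rw [h0]
    exact zero_mem _
  -- a grade occurring often
  obtain ⟨i, hi⟩ : ∃ i, 2 * F.N ≤ (l.filter fun e => decide (e.1 = i)).length := by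
    by_contra hno
    push Not at hno
    have hsum : ∀ l : List (ι × ℕ × L), l.length = ∑ i, (l.filter fun e => decide (e.1 = i)).length := by
      intro l
      induction l with
      | nil => simp
      | cons e l ih =>
        have h : ∀ i, ((e :: l).filter fun e => decide (e.1 = i)).length =
            (l.filter fun e => decide (e.1 = i)).length + if e.1 = i then 1 else 0 := by
          intro i
          rw [List.filter_cons]
          by_cases h : e.1 = i <;> simp [h]
        rw [Finset.sum_congr rfl fun i _ => h i, Finset.sum_add_distrib, Finset.sum_ite_eq, if_pos (Finset.mem_univ _),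
          ← ih, List.length_cons]
    have h := hsum l
    rw [hlen, width] at h
    have h2 : ∑ i, (l.filter fun e => decide (e.1 = i)).length ≤ Fintype.card ι * (2 * F.N) := by
      refine (Finset.sum_le_card_nsmul _ _ (2 * F.N) fun i _ => (hno i).le).trans (le_of_eq ?_)
      rw [smul_eq_mul, Finset.card_univ]
    omega
  obtain ⟨same, hsame⟩ : ∃ same, same = (l.filter fun e => decide (e.1 = i)) := ⟨_, rfl⟩
  rw [← hsame] at hi
  obtain ⟨rest, hperm⟩ := (List.filter_sublist (p := fun e : ι × ℕ × L => decide (e.1 = i)) (l := l)).exists_perm_append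
  rw [← hsame] at hperm
  -- the half of smaller degree goes last
  obtain ⟨big, small, hbs, hsmall, hle⟩ : ∃ big small, same.Perm (big ++ small) ∧ F.N ≤ small.length ∧
      (small.map fun e => e.2.1).sum ≤ (big.map fun e => e.2.1).sum := by
    have h1 : F.N ≤ (same.take F.N).length := by rw [List.length_take]; omega
    have h2 : F.N ≤ (same.drop F.N).length := by rw [List.length_drop]; omega
    rcases le_total ((same.take F.N).map fun e => e.2.1).sum ((same.drop F.N).map fun e => e.2.1).sum with h | h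
    · exact ⟨same.drop F.N, same.take F.N, by
        refine (List.Perm.of_eq (List.take_append_drop F.N same).symm).trans List.perm_append_comm, h1, h⟩
    · exact ⟨same.take F.N, same.drop F.N, List.Perm.of_eq (List.take_append_drop F.N same).symm, h2, h⟩
  have hperm' : l.Perm ((rest ++ big) ++ small) := by
    refine hperm.trans ((hbs.append_right rest).trans (List.perm_append_comm.trans ?_))
    rw [List.append_assoc]
  have hmem : ∀ e ∈ (rest ++ big) ++ small, e ∈ l := fun e he => hperm'.mem_iff.2 he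
  have hdeg := F.appL_deg (rest ++ big) hs fun e he => F.hom_le _ _ (hl e (hmem e (List.mem_append_left _ he))).2
  have hzero : appL (fun e : ι × ℕ × L => e.2.2) x ((rest ++ big) ++ small) = 0 := by
    rw [appL_append]
    have h := F.star i _ _ hdeg (small.map Prod.snd) (fun e he => by
      obtain ⟨e', he', rfl⟩ := List.mem_map.1 he
      have hi' : e'.1 = i := by
        have : e' ∈ same := hbs.mem_iff.2 (List.mem_append_right _ he')
        rw [hsame, List.mem_filter] at this
        simpa using this.2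
      exact hi' ▸ (hl e' (hmem e' (List.mem_append_right _ he'))).2) (by rw [List.length_map]; exact hsmall) (by
      rw [List.map_map, List.map_append, List.sum_append]
      show (small.map fun e => e.2.1).sum < _
      omega)
    rw [appL, List.foldl_map] at h
    exact h
  have h := hswap l ((rest ++ big) ++ small) hperm' x hx fun e he => (hl e he).1
  rwa [hzero, sub_zero] at h

/-- Collecting along a descending family. -/
theorem collect {U V I : AddSubgroup L} {W : ℕ → AddSubgroup L} (hW : ∀ w, F.Good (W w)) (hV : F.Good V)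
    (hI : F.Good I) (hW0 : W 0 ≤ U) (hW' : ∀ w, W (w + 1) ≤ W w) (hWU : ∀ w, br (W w) U ≤ W (w + 1))
    (hVU : br V U ≤ V) (hIU : br I U ≤ I) (n₀ : ℕ) (hend : br V (W n₀) ≤ I) :
    iterL V (W 0) (F.width ^ n₀) ≤ I := by
  have hWle : ∀ w, W w ≤ U := fun w => by
    induction w with
    | zero => exact hW0
    | succ w ih => exact (hW' w).trans ih
  suffices hmain : ∀ j w, w + j = n₀ → iterL V (W w) (F.width ^ j) ≤ I from hmain n₀ 0 (Nat.zero_add _)
  intro j
  induction j with
  | zero =>
    intro w hw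
    rw [Nat.add_zero] at hw
    subst hw
    exact hend
  | succ j ih =>
    intro w hw
    obtain ⟨Y, hY⟩ : ∃ Y : ℕ → AddSubgroup L, Y = fun i => iterL V (W (w + 1)) i ⊔ I := ⟨_, rfl⟩
    have hYU : ∀ i, br (Y i) U ≤ Y i := by
      intro i
      rw [hY]
      refine br_sup_le (le_trans ?_ le_sup_left) (hIU.trans le_sup_right)
      induction i with
      | zero => exact hVU
      | succ i ihi =>
        refine br_le fun x hx y hy => closure_bracket (T := {y}) ?_ hx (AddSubgroup.subset_closure rfl)
        rintro _ ⟨a, ha, b, hb, rfl⟩ t ht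
        rw [Set.mem_singleton_iff.1 ht]
        have e : ⁅⁅a, b⁆, y⁆ = ⁅⁅a, y⁆, b⁆ + ⁅a, ⁅b, y⁆⁆ := by rw [lie_lie_right a b y]; abel
        rw [e]
        exact add_mem (mem_br (ihi (mem_br ha hy)) hb)
          (mem_br ha ((hWU (w + 1)).trans (hW' (w + 1)) (mem_br hb hy)))
    suffices hsteps : ∀ i, iterL V (W w) (F.width * i) ≤ Y i by
      refine (le_of_eq (by rw [pow_succ'])).trans ((hsteps (F.width ^ j)).trans ?_)
      rw [hY]
      exact sup_le (ih (w + 1) (by omega)) le_rfl
    intro i
    induction i with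
    | zero => rw [Nat.mul_zero, hY]; exact le_sup_left
    | succ i ihi =>
      rw [Nat.mul_succ, iterL_add]
      refine (iterL_mono ihi le_rfl _).trans ?_
      have hYF : br (Y i) (W (w + 1)) ≤ Y (i + 1) := by
        rw [hY]
        exact br_sup_le le_sup_left (((br_mono le_rfl (hWle _)).trans hIU).trans le_sup_right)
      refine F.step (hW w) ?_ (hWle w) ((br_mono le_rfl (hWle w)).trans (hWU w)) (hYU i) (hYU (i + 1)) hYF
      rw [hY]
      exact F.good_sup (F.good_iterL hV (hW (w + 1)) i) hI

/-- The class of a homogeneous solvable subring. -/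
def classBound (Q : ℕ) : ℕ → ℕ
  | 0 => 0
  | n + 1 => classBound Q n + Q ^ classBound Q n

theorem lowerBound_of_derived {U : AddSubgroup L} (hU : F.Good U) (hUU : br U U ≤ U) :
    ∀ (n : ℕ) (I : AddSubgroup L), F.Good I → I ≤ U → br I U ≤ I → D U n ≤ I →
      iterL U U (classBound F.width n) ≤ I := by
  intro n
  induction n with
  | zero => intro I _ _ _ h; exact h
  | succ n ih =>
    intro I hI hIU hIi hD
    have hDle : ∀ m, D U m ≤ U := by
      intro m
      induction m with
      | zero => exact le_rfl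
      | succ m ihm => exact (br_mono ihm ihm).trans hUU
    have hDi : ∀ m, br (D U m) U ≤ D U m := by
      intro m
      induction m with
      | zero => exact hUU
      | succ m ihm =>
        refine br_le fun x hx y hy => closure_bracket (T := {y}) ?_ hx (AddSubgroup.subset_closure rfl)
        rintro _ ⟨a, ha, b, hb, rfl⟩ t ht
        rw [Set.mem_singleton_iff.1 ht]
        have e : ⁅⁅a, b⁆, y⁆ = ⁅⁅a, y⁆, b⁆ + ⁅a, ⁅b, y⁆⁆ := by rw [lie_lie_right a b y]; abel
        rw [e]
        exact add_mem (mem_br (ihm (mem_br ha hy)) hb) (mem_br ha (ihm (mem_br hb hy)))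
    obtain ⟨M, hM⟩ : ∃ M, M = D U n ⊔ I := ⟨_, rfl⟩
    have hMi : br M U ≤ M := hM ▸ br_sup_le ((hDi n).trans le_sup_left) (hIi.trans le_sup_right)
    have hMg : F.Good M := hM ▸ F.good_sup (F.good_D hU n) hI
    have hMU : M ≤ U := hM ▸ sup_le (hDle n) hIU
    have hbase := ih M hMg hMU hMi (hM ▸ le_sup_left)
    have hMM : br M M ≤ I := by
      rw [hM]
      refine br_sup_le ((br_comm _ _).trans (br_sup_le hD ((br_mono le_rfl (hDle n)).trans hIi))) ?_
      exact (br_mono le_rfl (sup_le (hDle n) hIU)).trans hIi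
    have hcol := F.collect (W := iterL U U) (fun w => F.good_iterL hU hU w) hMg hI le_rfl
      (iterL_succ_le hUU) (fun w => le_rfl) hMi hIi (classBound F.width n)
      ((br_mono le_rfl hbase).trans hMM)
    rw [classBound, iterL_add]
    exact (iterL_mono hbase le_rfl _).trans hcol

/-- A homogeneous solvable subring acts nilpotently. -/
theorem nil_of_derived {U : AddSubgroup L} (hU : F.Good U) (hUU : br U U ≤ U) {n : ℕ} (hD : D U n = ⊥) :
    iterL ⊤ U (F.width ^ classBound F.width n) = ⊥ := by
  have hbot : ∀ W : AddSubgroup L, br (⊥ : AddSubgroup L) W ≤ ⊥ := fun W =>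
    br_le fun a ha b _ => by rw [AddSubgroup.mem_bot.1 ha, zero_lie]; exact zero_mem _
  have hcl := F.lowerBound_of_derived hU hUU n ⊥ F.good_bot bot_le (hbot U) hD.le
  exact le_bot_iff.1 (F.collect (W := iterL U U) (fun w => F.good_iterL hU hU w) F.good_top F.good_bot le_rfl
    (iterL_succ_le hUU) (fun w => le_rfl) le_top (hbot U) _
    (((br_mono le_rfl hcl).trans (br_comm _ _)).trans (hbot _)))

end Frame

end CfsgLib.HallGen.RankWord
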