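import Cfsg.Agent.Lib.HallGen.RankWord.LieCollect
import Cfsg.Agent.Lib.Core.HKKBound

/-!
# Kreknin's theorem with a nilpotently acting zero component

* `NGrading.D_top_eq_bot`: a graded Lie ring whose zero component acts nilpotently is solvable
* `D_eq_bot_of_norm`: the same for a Lie ring with an automorphism of prime order
-/

set_option autoImplicit false
set_option linter.all false

namespace CfsgLib.HallGen.RankWord

open CfsgLib.Core.HKK

/-- The derived length. -/
def krBound (q : ℕ) : ℕ → ℕ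
  | 0 => q
  | k + 1 => q * (krBound q k + 1) + krBound q k

variable {L : Type*} [LieRing L]

/-- A grading by `ZMod p`, given with its projections. -/
structure NGrading (p : ℕ) [NeZero p] (L : Type*) [LieRing L] where
  part : ZMod p → AddSubgroup L
  proj : ZMod p → L →+ L
  lie_mem : ∀ {i j x y}, x ∈ part i → y ∈ part j → ⁅x, y⁆ ∈ part (i + j)
  proj_self : ∀ {i x}, x ∈ part i → proj i x = x
  proj_ne : ∀ {i j x}, j ≠ i → x ∈ part j → proj i x = 0
  proj_mem : ∀ i x, proj i x ∈ part i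
  sum_proj : ∀ x, ∑ i, proj i x = x

namespace NGrading

variable {p : ℕ} [NeZero p] (𝒢 : NGrading p L)

/-- The homogeneous elements of a subgroup. -/
def hset (A : AddSubgroup L) : Set L := {x | x ∈ A ∧ ∃ i, x ∈ 𝒢.part i}

/-- A subgroup generated by its homogeneous elements. -/
def Homog (A : AddSubgroup L) : Prop := A ≤ AddSubgroup.closure (𝒢.hset A)

theorem homog_top : 𝒢.Homog ⊤ := fun x _ => by
  rw [← 𝒢.sum_proj x]
  exact sum_mem fun i _ => AddSubgroup.subset_closure ⟨AddSubgroup.mem_top _, i, 𝒢.proj_mem i x⟩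

theorem homog_br {A B : AddSubgroup L} (hA : 𝒢.Homog A) (hB : 𝒢.Homog B) : 𝒢.Homog (br A B) := by
  refine br_le fun a ha b hb => closure_bracket ?_ (hA ha) (hB hb)
  rintro s ⟨hs, i, hi⟩ t ⟨ht, j, hj⟩
  exact AddSubgroup.subset_closure ⟨mem_br hs ht, i + j, 𝒢.lie_mem hi hj⟩

theorem homog_D {A : AddSubgroup L} (hA : 𝒢.Homog A) : ∀ n, 𝒢.Homog (D A n)
  | 0 => hA
  | n + 1 => 𝒢.homog_br (homog_D hA n) (homog_D hA n)

/-- The homogeneous elements of degree above `k`. -/
def gen (k : ℕ) (A : AddSubgroup L) : Set L := {x | x ∈ A ∧ ∃ i, k < i.val ∧ x ∈ 𝒢.part i}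

/-- The subring they generate. -/
def sub (k : ℕ) (A : AddSubgroup L) : AddSubgroup L :=
  sInf {B | 𝒢.gen k A ⊆ B ∧ br B B ≤ B}

theorem gen_subset_sub (k : ℕ) (A : AddSubgroup L) : 𝒢.gen k A ⊆ 𝒢.sub k A := fun x hx =>
  AddSubgroup.mem_sInf.mpr fun _ hB => hB.1 hx

theorem br_sub_le (k : ℕ) (A : AddSubgroup L) : br (𝒢.sub k A) (𝒢.sub k A) ≤ 𝒢.sub k A :=
  br_le fun a ha b hb => AddSubgroup.mem_sInf.mpr fun B hB =>
    hB.2 (mem_br (AddSubgroup.mem_sInf.mp ha B hB) (AddSubgroup.mem_sInf.mp hb B hB))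

theorem sub_le {k : ℕ} {A B : AddSubgroup L} (h : 𝒢.gen k A ⊆ B) (hB : br B B ≤ B) :
    𝒢.sub k A ≤ B := sInf_le ⟨h, hB⟩

theorem sub_mono {k : ℕ} {A B : AddSubgroup L} (h : A ≤ B) : 𝒢.sub k A ≤ 𝒢.sub k B :=
  𝒢.sub_le (fun x hx => 𝒢.gen_subset_sub k B ⟨h hx.1, hx.2⟩) (𝒢.br_sub_le k B)

theorem sub_le_self {k : ℕ} {A : AddSubgroup L} (h : br A A ≤ A) : 𝒢.sub k A ≤ A :=
  𝒢.sub_le (fun x hx => hx.1) h

/-- The subring is invariant under the zero component. -/
theorem br_sub_zero (k : ℕ) {A : AddSubgroup L} (hA : br A A ≤ A) :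
    br (𝒢.sub k A) (A ⊓ 𝒢.part 0) ≤ 𝒢.sub k A := by
  let B : AddSubgroup L :=
    { carrier := {y | y ∈ 𝒢.sub k A ∧ ∀ z ∈ A ⊓ 𝒢.part 0, ⁅y, z⁆ ∈ 𝒢.sub k A}
      zero_mem' := ⟨zero_mem _, fun z _ => by rw [zero_lie]; exact zero_mem _⟩
      add_mem' := fun {a b} ha hb => ⟨add_mem ha.1 hb.1, fun z hz => by
        rw [add_lie]; exact add_mem (ha.2 z hz) (hb.2 z hz)⟩
      neg_mem' := fun {a} ha => ⟨neg_mem ha.1, fun z hz => by
        rw [neg_lie]; exact neg_mem (ha.2 z hz)⟩ }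
  have hle : 𝒢.sub k A ≤ B := by
    refine 𝒢.sub_le (fun g hg => ⟨𝒢.gen_subset_sub k A hg, fun z hz => ?_⟩)
      (br_le fun y hy y' hy' => ⟨𝒢.br_sub_le k A (mem_br hy.1 hy'.1), fun z hz => ?_⟩)
    · obtain ⟨hgA, i, hi, hgi⟩ := hg
      refine 𝒢.gen_subset_sub k A ⟨hA (mem_br hgA hz.1), i, hi, ?_⟩
      have := 𝒢.lie_mem hgi hz.2
      rwa [add_zero] at this
    · have e : ⁅⁅y, y'⁆, z⁆ = ⁅⁅y, z⁆, y'⁆ + ⁅y, ⁅y', z⁆⁆ := by rw [lie_lie_right y y' z]; abel
      rw [e]
      exact add_mem (𝒢.br_sub_le k A (mem_br (hy.2 z hz) hy'.1)) (𝒢.br_sub_le k A (mem_br hy.1 (hy'.2 z hz)))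
  exact br_le fun a ha b hb => (hle ha).2 b hb

theorem homog_sub (k : ℕ) (A : AddSubgroup L) : 𝒢.Homog (𝒢.sub k A) := by
  refine 𝒢.sub_le (fun x hx => AddSubgroup.subset_closure ?_) (br_le fun a ha b hb => ?_)
  · obtain ⟨-, i, -, hi⟩ := id hx
    exact ⟨𝒢.gen_subset_sub k A hx, i, hi⟩
  · refine closure_bracket ?_ ha hb
    rintro s ⟨hs, i, hi⟩ t ⟨ht, j, hj⟩
    exact AddSubgroup.subset_closure ⟨𝒢.br_sub_le k A (mem_br hs ht), i + j, 𝒢.lie_mem hi hj⟩

/-- The brackets of the subring are spanned by brackets with its generators. -/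
theorem br_sub_span (k : ℕ) (A : AddSubgroup L) : br (𝒢.sub k A) (𝒢.sub k A) ≤
    AddSubgroup.closure {z | ∃ t ∈ 𝒢.hset (𝒢.sub k A), ∃ g ∈ 𝒢.gen k A, ⁅t, g⁆ = z} := by
  generalize hW : AddSubgroup.closure {z | ∃ t ∈ 𝒢.hset (𝒢.sub k A), ∃ g ∈ 𝒢.gen k A, ⁅t, g⁆ = z} = W
  let B : AddSubgroup L :=
    { carrier := {y | y ∈ 𝒢.sub k A ∧ ∀ x ∈ 𝒢.sub k A, ⁅x, y⁆ ∈ W}
      zero_mem' := ⟨zero_mem _, fun x _ => by rw [lie_zero]; exact zero_mem W⟩
      add_mem' := fun {a b} ha hb => ⟨add_mem ha.1 hb.1, fun x hx => by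
        rw [lie_add]; exact add_mem (ha.2 x hx) (hb.2 x hx)⟩
      neg_mem' := fun {a} ha => ⟨neg_mem ha.1, fun x hx => by
        rw [lie_neg]; exact neg_mem (ha.2 x hx)⟩ }
  have hle : 𝒢.sub k A ≤ B := by
    refine 𝒢.sub_le (fun g hg => ⟨𝒢.gen_subset_sub k A hg, fun x hx => ?_⟩)
      (br_le fun y hy z hz => ⟨𝒢.br_sub_le k A (mem_br hy.1 hz.1), fun x hx => ?_⟩)
    · refine closure_bracket (T := {g}) ?_ (𝒢.homog_sub k A hx) (AddSubgroup.subset_closure rfl)
      intro s hs t ht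
      rw [Set.mem_singleton_iff.mp ht, ← hW]
      exact AddSubgroup.subset_closure ⟨s, hs, g, hg, rfl⟩
    · rw [lie_lie_right]
      exact sub_mem (hz.2 _ (𝒢.br_sub_le k A (mem_br hx hy.1)))
        (hy.2 _ (𝒢.br_sub_le k A (mem_br hx hz.1)))
  exact br_le fun a ha b hb => (hle hb).2 a ha

theorem D_le {A : AddSubgroup L} (h : br A A ≤ A) : ∀ n, D A n ≤ A
  | 0 => le_rfl
  | n + 1 => (br_mono (D_le h n) (D_le h n)).trans h

theorem D_closed {A : AddSubgroup L} (h : br A A ≤ A) (n : ℕ) : br (D A n) (D A n) ≤ D A n := D_succ_le h n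

/-- Kreknin's theorem when the zero component acts nilpotently. -/
theorem D_le_sub {q : ℕ} (hq : iterL ⊤ (𝒢.part 0) q = ⊥) : ∀ k, k ≤ p - 1 → ∀ A : AddSubgroup L,
    𝒢.Homog A → br A A ≤ A → D A (krBound q k) ≤ 𝒢.sub k A := by
  intro k
  induction k with
  | zero =>
    intro _ A hA hAc
    obtain ⟨P, hP⟩ : ∃ P, P = A ⊓ 𝒢.part 0 := ⟨_, rfl⟩
    suffices hmain : ∀ j, D A j ≤ 𝒢.sub 0 A ⊔ iterL P P j by
      refine (hmain q).trans (sup_le le_rfl ((iterL_mono le_top (hP ▸ inf_le_right) q).trans ?_))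
      rw [hq]; exact bot_le
    have hpos : ∀ (x : L) (i : ZMod p), x ∈ A → x ∈ 𝒢.part i → i ≠ 0 → x ∈ 𝒢.sub 0 A := fun x i hx hi h0 =>
      𝒢.gen_subset_sub 0 A ⟨hx, i, Nat.pos_of_ne_zero fun h => h0 ((ZMod.val_eq_zero i).mp h), hi⟩
    intro j
    induction j with
    | zero =>
      refine hA.trans ((AddSubgroup.closure_le _).mpr ?_)
      rintro x ⟨hx, i, hi⟩
      by_cases h0 : i = 0
      · exact AddSubgroup.mem_sup_right (by rw [hP]; exact ⟨hx, h0 ▸ hi⟩)
      · exact AddSubgroup.mem_sup_left (hpos x i hx hi h0)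
    | succ j ihj =>
      refine br_le fun a ha b hb => closure_bracket ?_ (𝒢.homog_D hA j ha) (𝒢.homog_D hA j hb)
      rintro s ⟨hs, i, hi⟩ t ⟨ht, i', hi'⟩
      have hsA := D_le hAc j hs
      have htA := D_le hAc j ht
      by_cases h : i + i' = 0
      swap
      · exact AddSubgroup.mem_sup_left (hpos _ _ (hAc (mem_br hsA htA)) (𝒢.lie_mem hi hi') h)
      by_cases h0 : i = 0
      swap
      · exact AddSubgroup.mem_sup_left (𝒢.br_sub_le 0 A (mem_br (hpos s i hsA hi h0)
          (hpos t i' htA hi' fun e => h0 (by rwa [e, add_zero] at h))))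
      subst h0
      rw [zero_add] at h
      subst h
      have htP : t ∈ P := hP ▸ ⟨htA, hi'⟩
      obtain ⟨x, hx, y, hy, rfl⟩ := AddSubgroup.mem_sup.1 (ihj hs)
      rw [add_lie]
      exact AddSubgroup.mem_sup.2 ⟨_, 𝒢.br_sub_zero 0 hAc (mem_br hx (hP ▸ htP)), _, mem_br hy htP, rfl⟩
  | succ k ih =>
    intro hk A hA hAc
    generalize hn : krBound q k = n at ih
    obtain ⟨i, hiv⟩ : ∃ i : ZMod p, i.val = k + 1 :=
      ⟨((k + 1 : ℕ) : ZMod p), ZMod.val_natCast_of_lt (by omega)⟩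
    obtain ⟨P, hP⟩ : ∃ P, P = A ⊓ 𝒢.part 0 := ⟨_, rfl⟩
    obtain ⟨X, hX⟩ : ∃ X : ℕ → AddSubgroup L, X = fun r => 𝒢.sub (k + 1) A ⊔ iterL (𝒢.part i) P r := ⟨_, rfl⟩
    suffices hmain : ∀ r, ∀ x ∈ D A (r * (n + 1)), x ∈ 𝒢.part i → x ∈ X r by
      have hidx : krBound q (k + 1) = q * (n + 1) + n := by rw [krBound, hn]
      rw [hidx, D_add]
      refine (ih (by omega) _ (𝒢.homog_D hA _) (D_closed hAc _)).trans (𝒢.sub_le ?_ (𝒢.br_sub_le _ _))
      rintro x ⟨hx, j, hjk, hj⟩
      rcases Nat.lt_or_ge (k + 1) j.val with hlt | hge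
      · exact 𝒢.gen_subset_sub (k + 1) A ⟨D_le hAc _ hx, j, hlt, hj⟩
      obtain rfl : j = i := ZMod.val_injective p (by omega)
      have h1 := hmain q x hx hj
      rw [hX] at h1
      refine (sup_le le_rfl ((iterL_mono le_top (hP ▸ inf_le_right) q).trans ?_) : _ ≤ 𝒢.sub (k + 1) A) h1
      rw [hq]; exact bot_le
    intro r
    induction r with
    | zero =>
      intro x hx hxi
      rw [hX]
      exact AddSubgroup.mem_sup_right hxi
    | succ r ihr =>
      intro x hx hxi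
      rw [Nat.succ_mul, D_add] at hx
      obtain ⟨A', hA'⟩ : ∃ A', A' = D A (r * (n + 1)) := ⟨_, rfl⟩
      rw [← hA'] at hx ihr
      have hA'h : 𝒢.Homog A' := hA' ▸ 𝒢.homog_D hA _
      have hA'c : br A' A' ≤ A' := hA' ▸ D_closed hAc _
      have hA'A : A' ≤ A := hA' ▸ D_le hAc _
      have hB := ih (by omega) A' hA'h hA'c
      rw [← 𝒢.proj_self hxi]
      have hmap : (br (𝒢.sub k A') (𝒢.sub k A')).map (𝒢.proj i) ≤ X (r + 1) := by
        refine (AddSubgroup.map_mono (𝒢.br_sub_span k A')).trans ?_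
        rw [AddMonoidHom.map_closure, AddSubgroup.closure_le]
        rintro _ ⟨_, ⟨t, ⟨ht, d, hd⟩, g, ⟨hg, j, hjk, hj⟩, rfl⟩, rfl⟩
        have htA' : t ∈ A' := 𝒢.sub_le_self hA'c ht
        by_cases hdj : d + j = i
        swap
        · rw [𝒢.proj_ne hdj (𝒢.lie_mem hd hj)]
          exact zero_mem _
        rw [𝒢.proj_self (hdj ▸ 𝒢.lie_mem hd hj)]
        by_cases hd0 : d = 0
        · subst hd0
          rw [zero_add] at hdj
          subst hdj
          have htP : t ∈ P := hP ▸ ⟨hA'A htA', hd⟩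
          have h1 := ihr g hg hj
          rw [hX] at h1 ⊢
          obtain ⟨y, hy, z, hz, rfl⟩ := AddSubgroup.mem_sup.1 h1
          rw [← lie_skew, add_lie]
          exact neg_mem (AddSubgroup.mem_sup.2 ⟨_, 𝒢.br_sub_zero (k + 1) hAc (mem_br hy (hP ▸ htP)),
            _, mem_br hz htP, rfl⟩)
        have hji : j ≠ i := fun e => hd0 (by rwa [e, add_eq_right] at hdj)
        have hval : (d.val + j.val) % p = k + 1 := by rw [← ZMod.val_add, hdj, hiv]
        have hjne : j.val ≠ k + 1 := fun e => hji (ZMod.val_injective p (e.trans hiv.symm))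
        have hdlt := d.val_lt
        have hjlt := j.val_lt
        have hdgt : k + 1 < d.val := by
          rcases Nat.lt_or_ge (d.val + j.val) p with h | h
          · rw [Nat.mod_eq_of_lt h] at hval; omega
          · rw [Nat.mod_eq_sub_mod h, Nat.mod_eq_of_lt (by omega)] at hval; omega
        rw [hX]
        exact AddSubgroup.mem_sup_left (𝒢.br_sub_le _ _ (mem_br (𝒢.gen_subset_sub _ A ⟨hA'A htA', d, hdgt, hd⟩)
          (𝒢.gen_subset_sub _ A ⟨hA'A hg, j, by omega, hj⟩)))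
      exact hmap ⟨x, br_mono hB hB hx, rfl⟩

include 𝒢 in
theorem D_top_eq_bot {q : ℕ} (hq : iterL ⊤ (𝒢.part 0) q = ⊥) :
    D (⊤ : AddSubgroup L) (krBound q (p - 1)) = ⊥ := by
  refine le_bot_iff.mp ((𝒢.D_le_sub hq (p - 1) le_rfl ⊤ 𝒢.homog_top le_top).trans (𝒢.sub_le ?_ ?_))
  · rintro x ⟨-, i, hi, -⟩
    have := i.val_lt
    omega
  · exact br_le fun a ha b hb => by rw [AddSubgroup.mem_bot.mp ha, zero_lie]; exact zero_mem _

end NGrading

open Polynomial
open scoped TensorProduct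

variable (p : ℕ) [hp : Fact p.Prime]

set_option backward.isDefEq.respectTransparency false in
/-- A Lie ring with an automorphism of order `p` whose norms act nilpotently is solvable. -/
theorem D_eq_bot_of_norm.{u} {L : Type u} [LieRing L] (Φ : L →+ L)
    (hlie : ∀ x y, Φ ⁅x, y⁆ = ⁅Φ x, Φ y⁆) (hper : ∀ x, (⇑Φ)^[p] x = x) (U : AddSubgroup L)
    (hnorm : ∀ x, ∑ k ∈ Finset.range p, (⇑Φ)^[k] x ∈ U) {q : ℕ} (hU : iterL ⊤ U q = ⊥)
    {n : ℕ} (hn : n.Coprime p) (hnx : ∀ x : L, n • x = 0) :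
    D (⊤ : AddSubgroup L) (krBound q (p - 1)) = ⊥ := by
  have hnM : ∀ z : Cyc p ⊗[ℤ] L, n • z = 0 := by
    intro z
    induction z using TensorProduct.induction_on with
    | zero => simp
    | tmul a x => rw [← TensorProduct.tmul_smul, hnx, TensorProduct.tmul_zero]
    | add z w hz hw => rw [smul_add, hz, hw, add_zero]
  obtain ⟨u, hu⟩ : ∃ u : ℕ, ∀ z : Cyc p ⊗[ℤ] L, (u * p) • z = z := by
    have h1 := Nat.gcd_eq_gcd_ab p n
    rw [show Nat.gcd p n = 1 from hn.symm] at h1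
    refine ⟨(Nat.gcdA p n % n).toNat, fun z => ?_⟩
    by_cases hn0 : n = 0
    · subst hn0
      exact absurd (Nat.coprime_zero_left _ |>.mp hn) hp.out.ne_one
    have hz : (n : ℤ) • z = 0 := by rw [natCast_zsmul, hnM]
    have hw : ∀ k : ℤ, (k * n) • z = 0 := fun k => by rw [mul_smul, hz, smul_zero]
    have h2 : (((Nat.gcdA p n % n).toNat * p : ℕ) : ℤ) =
        1 + (-(Nat.gcdA p n / n * p) - Nat.gcdB p n) * n := by
      rw [Nat.cast_mul, Int.toNat_of_nonneg (Int.emod_nonneg _ (by exact_mod_cast hn0)),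
        Int.emod_def]
      push_cast at h1 ⊢
      linarith
    rw [← natCast_zsmul, h2, add_smul, hw, one_smul, add_zero]
  let F : Module.End (Cyc p) (Cyc p ⊗[ℤ] L) := Φ.toIntLinearMap.baseChange (Cyc p)
  have hFt : ∀ a x, F (a ⊗ₜ x) = a ⊗ₜ Φ x := fun a x => rfl
  have hFk : ∀ (k : ℕ) a x, (F ^ k) (a ⊗ₜ x) = a ⊗ₜ (⇑Φ)^[k] x := by
    intro k a x
    induction k with
    | zero => rfl
    | succ k ih => rw [pow_succ', Module.End.mul_apply, ih, hFt, Function.iterate_succ_apply']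
  have hFp : F ^ p = 1 := by
    refine LinearMap.ext fun z => ?_
    induction z using TensorProduct.induction_on with
    | zero => simp
    | tmul a x => rw [hFk, hper]; rfl
    | add z w hz hw => rw [map_add, map_add, hz, hw]
  let U' : AddSubgroup (Cyc p ⊗[ℤ] L) := AddSubgroup.closure {z | ∃ a, ∃ x ∈ U, a ⊗ₜ[ℤ] x = z}
  have hFN : ∀ z, ∑ k ∈ Finset.range p, (F ^ k) z ∈ U' := by
    intro z
    induction z using TensorProduct.induction_on with
    | zero => simp
    | tmul a x =>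
      simp only [hFk]
      rw [← TensorProduct.tmul_sum]
      exact AddSubgroup.subset_closure ⟨a, _, hnorm x, rfl⟩
    | add z w hz hw =>
      simp only [map_add, Finset.sum_add_distrib]
      exact add_mem hz hw
  have haddl : ∀ x y z : Cyc p ⊗[ℤ] L, ⁅x + y, z⁆ = ⁅x, z⁆ + ⁅y, z⁆ := fun x y z => add_lie x y z
  have haddr : ∀ x y z : Cyc p ⊗[ℤ] L, ⁅x, y + z⁆ = ⁅x, y⁆ + ⁅x, z⁆ := fun x y z => lie_add x y z
  have hzl : ∀ x : Cyc p ⊗[ℤ] L, ⁅(0 : Cyc p ⊗[ℤ] L), x⁆ = 0 := fun x => zero_lie x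
  have hzr : ∀ x : Cyc p ⊗[ℤ] L, ⁅x, (0 : Cyc p ⊗[ℤ] L)⁆ = 0 := fun x => lie_zero x
  have hsmul : ∀ (a b : Cyc p) (x y : Cyc p ⊗[ℤ] L), ⁅a • x, b • y⁆ = (a * b) • ⁅x, y⁆ :=
    fun a b x y => (LieAlgebra.lie_smul b (a • x) y).trans (by
      rw [mul_comm, mul_smul]
      exact congrArg (b • ·) (smul_lie a x y))
  have hFlie : ∀ z w, F ⁅z, w⁆ = ⁅F z, F w⁆ := by
    intro z w
    induction z using TensorProduct.induction_on with
    | zero => simp only [map_zero, hzl]
    | add z z' hz hz' => simp only [haddl, map_add, hz, hz']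
    | tmul a x =>
      induction w using TensorProduct.induction_on with
      | zero => simp only [map_zero, hzr]
      | add w w' hw hw' => simp only [haddr, map_add, hw, hw']
      | tmul b y =>
        rw [LieAlgebra.ExtendScalars.bracket_tmul, hFt, hFt, hFt,
          LieAlgebra.ExtendScalars.bracket_tmul, hlie]
  let P : ZMod p → Module.End (Cyc p) (Cyc p ⊗[ℤ] L) := fun j => F ^ j.val
  have hP : ∀ j, F * P j = P (j + 1) := fun j => by
    rw [← pow_succ', show P (j + 1) = F ^ (j + 1).val from rfl, ZMod.val_add, ZMod.val_one,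
      ← pow_eq_pow_mod _ hFp]
  have hmem : ∀ {i : ZMod p} {z}, z ∈ LinearMap.ker (F - e p i • (1 : Module.End (Cyc p) _)) ↔
      F z = e p i • z := by
    intro i z
    rw [LinearMap.mem_ker, LinearMap.sub_apply, LinearMap.smul_apply, Module.End.one_apply,
      sub_eq_zero]
  have hpow : ∀ {i : ZMod p} {z}, F z = e p i • z → ∀ j, P j z = e p (j * i) • z := by
    intro i z hz j
    have h : ∀ k : ℕ, (F ^ k) z = e p ((k : ZMod p) * i) • z := by
      intro k
      induction k with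
      | zero => rw [Nat.cast_zero, zero_mul, e_zero, one_smul, pow_zero]; rfl
      | succ k ih =>
        rw [pow_succ', Module.End.mul_apply, ih, map_smul, hz, smul_smul, ← e_add, Nat.cast_succ,
          add_one_mul]
    rw [← ZMod.natCast_zmod_val j]
    simpa [P] using h j.val
  let π : ZMod p → Module.End (Cyc p) (Cyc p ⊗[ℤ] L) := fun i => u • ∑ j, e p (-(i * j)) • P j
  have hπ : ∀ i z, π i z = u • ∑ j, e p (-(i * j)) • P j z := fun i z => by
    simp only [π, LinearMap.smul_apply, LinearMap.sum_apply]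
  have hpu : ∀ z : Cyc p ⊗[ℤ] L, u • p • z = z := fun z => by rw [← mul_smul, hu]
  let 𝒢 : NGrading p (Cyc p ⊗[ℤ] L) :=
    { part := fun i => (LinearMap.ker (F - e p i • (1 : Module.End (Cyc p) _))).toAddSubgroup
      proj := fun i => (π i).toAddMonoidHom
      lie_mem := fun {i j x y} hx hy => by
        rw [Submodule.mem_toAddSubgroup, hmem] at hx hy ⊢
        rw [hFlie, hx, hy, e_add]
        exact hsmul _ _ x y
      proj_self := fun {i x} hx => by
        rw [Submodule.mem_toAddSubgroup, hmem] at hx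
        show π i x = x
        rw [hπ]
        have h : ∀ j, e p (-(i * j)) • P j x = x := fun j => by
          rw [hpow hx, smul_smul, ← e_add, mul_comm i, neg_add_cancel, e_zero, one_smul]
        rw [Finset.sum_congr rfl fun j _ => h j, Finset.sum_const, Finset.card_univ, ZMod.card]
        exact hpu x
      proj_ne := fun {i j x} hne hx => by
        rw [Submodule.mem_toAddSubgroup, hmem] at hx
        show π i x = 0
        rw [hπ]
        have h : ∀ k, e p (-(i * k)) • P k x = e p (k * (j - i)) • x := fun k => by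
          rw [hpow hx, smul_smul, ← e_add]
          congr 2; ring
        rw [Finset.sum_congr rfl fun k _ => h k, ← Finset.sum_smul,
          sum_e_mul p (sub_ne_zero.mpr hne), zero_smul, smul_zero]
      proj_mem := fun i x => by
        rw [Submodule.mem_toAddSubgroup, hmem]
        show F (π i x) = e p i • π i x
        rw [hπ, map_nsmul, map_sum, smul_comm (e p i) u, Finset.smul_sum (r := e p i)]
        congr 1
        refine Fintype.sum_equiv (Equiv.addRight 1) _ _ fun j => ?_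
        rw [map_smul, ← Module.End.mul_apply, hP, Equiv.coe_addRight, smul_smul, ← e_add]
        congr 2; ring
      sum_proj := fun x => by
        show ∑ i, π i x = x
        simp only [hπ]
        rw [← Finset.smul_sum, Finset.sum_comm]
        have h : ∀ j : ZMod p, ∑ i, e p (-(i * j)) • P j x = if j = 0 then p • x else 0 := by
          intro j
          rw [← Finset.sum_smul]
          split_ifs with hj
          · subst hj
            simp [e_zero, P, Nat.cast_smul_eq_nsmul]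
          · rw [Finset.sum_congr rfl fun i _ => congrArg (e p) (neg_mul_eq_mul_neg i j),
              sum_e_mul p (neg_ne_zero.mpr hj), zero_smul]
        rw [Finset.sum_congr rfl fun j _ => h j, Finset.sum_ite_eq' Finset.univ (0 : ZMod p),
          if_pos (Finset.mem_univ _)]
        exact hpu x }
  have hzero : 𝒢.part 0 ≤ U' := by
    intro z hz
    have hz' : F z = z := by
      have := hmem.1 hz
      rwa [e_zero, one_smul] at this
    have h1 : ∀ k : ℕ, (F ^ k) z = z := by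
      intro k
      induction k with
      | zero => rfl
      | succ k ih => rw [pow_succ', Module.End.mul_apply, ih, hz']
    have h2 : p • z ∈ U' := by
      have := hFN z
      simpa [h1] using this
    rw [← hpu z]
    exact nsmul_mem h2 u
  have hiter : ∀ r, iterL ⊤ U' r ≤
      AddSubgroup.closure {z | ∃ a, ∃ x ∈ iterL (⊤ : AddSubgroup L) U r, a ⊗ₜ[ℤ] x = z} := by
    intro r
    induction r with
    | zero =>
      intro z _
      induction z using TensorProduct.induction_on with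
      | zero => exact zero_mem _
      | tmul a x => exact AddSubgroup.subset_closure ⟨a, x, AddSubgroup.mem_top x, rfl⟩
      | add z w hz hw => exact add_mem (hz (AddSubgroup.mem_top z)) (hw (AddSubgroup.mem_top w))
    | succ r ih =>
      refine br_le fun y hy v hv => closure_bracket ?_ (ih hy) hv
      rintro _ ⟨a, x, hx, rfl⟩ _ ⟨b, x', hx', rfl⟩
      rw [LieAlgebra.ExtendScalars.bracket_tmul]
      exact AddSubgroup.subset_closure ⟨a * b, _, mem_br hx hx', rfl⟩
  have hq : iterL ⊤ (𝒢.part 0) q = ⊥ := by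
    refine le_bot_iff.1 ((iterL_mono le_rfl hzero q).trans ((hiter q).trans ((AddSubgroup.closure_le _).2 ?_)))
    rintro _ ⟨a, x, hx, rfl⟩
    rw [hU, AddSubgroup.mem_bot] at hx
    rw [hx, TensorProduct.tmul_zero]
    exact zero_mem _
  have hbot := 𝒢.D_top_eq_bot hq
  have hC : ∀ k, ∀ x ∈ D (⊤ : AddSubgroup L) k,
      (1 : Cyc p) ⊗ₜ[ℤ] x ∈ D (⊤ : AddSubgroup (Cyc p ⊗[ℤ] L)) k := by
    intro k
    induction k with
    | zero => exact fun x _ => AddSubgroup.mem_top _
    | succ k ih =>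
      intro x hx
      induction hx using AddSubgroup.closure_induction with
      | mem x hx =>
        obtain ⟨a, ha, b, hb, rfl⟩ := hx
        have := mem_br (ih a ha) (ih b hb)
        rwa [LieAlgebra.ExtendScalars.bracket_tmul, one_mul] at this
      | zero => rw [TensorProduct.tmul_zero]; exact zero_mem _
      | add a b _ _ ha hb => rw [TensorProduct.tmul_add]; exact add_mem ha hb
      | neg a _ ha => rw [TensorProduct.tmul_neg]; exact neg_mem ha
  refine le_bot_iff.mp fun x hx => ?_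
  have h0 : (1 : Cyc p) ⊗ₜ[ℤ] x = 0 := by
    have := hC _ x hx
    rwa [hbot, AddSubgroup.mem_bot] at this
  have hone : (AdjoinRoot.modByMonicHom (cyclotomic.monic p ℤ) (1 : Cyc p)).coeff 0 = 1 := by
    rw [← map_one (AdjoinRoot.mk (cyclotomic p ℤ)), AdjoinRoot.modByMonicHom_mk,
      (modByMonic_eq_self_iff (cyclotomic.monic p ℤ)).mpr, coeff_one_zero]
    rw [degree_one, degree_cyclotomic]
    exact_mod_cast Nat.totient_pos.mpr hp.out.pos
  have h3 := congrArg ((TensorProduct.lid ℤ L).toLinearMap ∘ₗ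
    ((Polynomial.lcoeff ℤ 0 ∘ₗ AdjoinRoot.modByMonicHom (cyclotomic.monic p ℤ)).rTensor L)) h0
  rw [map_zero] at h3
  simpa [LinearMap.rTensor_tmul, hone] using h3

end CfsgLib.HallGen.RankWord
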