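import Cfsg.Agent.Lib.HallGen.RankWord.Nil
import Cfsg.Agent.Lib.HallGen.RankWord.LieKreknin

/-!
# The class of a verbal subgroup from the classes in the centralisers of the operators

* `frame`: the associated Lie ring of the verbal subgroup as a frame
* `class_bound`: the bound on the class
-/

set_option autoImplicit false
set_option linter.all false

namespace CfsgLib.HallGen.RankWord

open Subgroup CfsgLib.Core.HKK CfsgLib.Core.Assoc
open scoped commutatorElement

universe u v

section span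

variable {K : Type u} [Group K]

/-- The images of the elements of a subgroup in one degree. -/
def homS (T : Subgroup K) (s : ℕ) : AddSubgroup (lcs K).Ring' where
  carrier := {x | ∃ g, ∃ hg : g ∈ (lcs K).H s, g ∈ T ∧ (lcs K).mk s g hg = x}
  zero_mem' := ⟨1, one_mem _, one_mem T, (lcs K).mk_eq_zero.mpr (one_mem _)⟩
  add_mem' := fun {x y} ⟨g, hg, hgT, e⟩ ⟨g', hg', hgT', e'⟩ =>
    ⟨g * g', mul_mem hg hg', mul_mem hgT hgT', by rw [(lcs K).mk_mul s hg hg', e, e']⟩
  neg_mem' := fun {x} ⟨g, hg, hgT, e⟩ => ⟨g⁻¹, inv_mem hg, inv_mem hgT, by rw [(lcs K).mk_inv s hg, e]⟩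

/-- Their span. -/
def spanS (T : Subgroup K) : AddSubgroup (lcs K).Ring' :=
  AddSubgroup.closure {x | ∃ s, x ∈ homS T s}

theorem mem_spanS {T : Subgroup K} {s : ℕ} {g : K} (hg : g ∈ (lcs K).H s) (hgT : g ∈ T) :
    (lcs K).mk s g hg ∈ spanS T :=
  AddSubgroup.subset_closure ⟨s, g, hg, hgT, rfl⟩

theorem br_spanS {T T' T'' : Subgroup K} (h : ⁅T, T'⁆ ≤ T'') : br (spanS T) (spanS T') ≤ spanS T'' := by
  refine br_le fun x hx y hy => closure_bracket ?_ hx hy
  rintro _ ⟨s, g, hg, hgT, rfl⟩ _ ⟨t, g', hg', hgT', rfl⟩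
  rw [(lcs K).lie_mk hg hg']
  exact mem_spanS _ (h (commutator_mem_commutator hgT hgT'))

theorem spanS_bot : spanS (⊥ : Subgroup K) = ⊥ := by
  refine le_bot_iff.1 ((AddSubgroup.closure_le _).2 ?_)
  rintro _ ⟨s, g, hg, hgT, rfl⟩
  exact AddSubgroup.mem_bot.2 ((lcs K).mk_eq_zero.mpr (by rw [mem_bot.1 hgT]; exact one_mem _))

end span

namespace CW

theorem bal_le_lcs {G : Type u} [Group G] (H : Subgroup G) : ∀ n, (bal n).val H ≤ H.lowerCentralSeries n
  | 0 => le_rfl
  | n + 1 => by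
      rw [bal, val, Subgroup.lowerCentralSeries_succ]
      exact commutator_mono (bal_le_lcs H n) (val_le H _)

end CW

/-- The number of grades. -/
abbrev Grade (p k : ℕ) : Type := Set (Fin (p ^ k))

/-- The width of a collecting step. -/
def stepWidth (p k c : ℕ) : ℕ := 2 ^ p ^ k * (2 * nilBound p k c) + 1

/-- The degree of nilpotency of the centraliser of an operator on the Lie ring. -/
def nilDeg (p k c m : ℕ) : ℕ := stepWidth p k c ^ Frame.classBound (stepWidth p k c) (m + c)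

/-- The bound on the class. -/
def classFn (p k c m : ℕ) : ℕ :=
  Frame.classBound (stepWidth p k c) (krBound (nilDeg p k c m) (p - 1))

variable {A : Type v} [Group A] [Finite A] {p : ℕ}
variable {G : Type u} [Group G] [Finite G] [MulDistribMulAction A G]

section lie

variable {K : Type u} [Group K] [Finite K] [MulDistribMulAction A K]

theorem act_mem_H (a : A) (s : ℕ) (x : K) (hx : x ∈ (lcs K).H s) :
    MulDistribMulAction.toMulAut A K a x ∈ (lcs K).H s :=
  ((Subgroup.lowerCentralSeries_characteristic (⊤ : Subgroup K) (s - 1)).fixed _).ge hx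

/-- The operator on the Lie ring. -/
def lieAct (a : A) : (lcs K).Ring' →+ (lcs K).Ring' :=
  (lcs K).mapAut (MulDistribMulAction.toMulAut A K a) (act_mem_H a)

theorem lieAct_mk (a : A) {s : ℕ} {g : K} (hg : g ∈ (lcs K).H s) :
    lieAct a ((lcs K).mk s g hg) = (lcs K).mk s (a • g) (act_mem_H a s g hg) :=
  (lcs K).mapAut_mk _ _ hg

theorem deg_zero_lie : homS (⊤ : Subgroup K) 0 = ⊥ := by
  refine le_bot_iff.1 ?_
  rintro _ ⟨g, hg, -, rfl⟩
  exact AddSubgroup.mem_bot.2 ((lcs K).mk_eq_zero' rfl)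

theorem homS_le_top (T : Subgroup K) (s : ℕ) : homS T s ≤ homS (⊤ : Subgroup K) s := by
  rintro _ ⟨g, hg, -, rfl⟩
  exact ⟨g, hg, mem_top g, rfl⟩

theorem lie_homS {i j : ℕ} {x y : (lcs K).Ring'} (hx : x ∈ homS (⊤ : Subgroup K) i)
    (hy : y ∈ homS (⊤ : Subgroup K) j) : ⁅x, y⁆ ∈ homS (⊤ : Subgroup K) (i + j) := by
  obtain ⟨g, hg, -, rfl⟩ := hx
  obtain ⟨g', hg', -, rfl⟩ := hy
  rw [(lcs K).lie_mk hg hg']
  exact ⟨_, _, mem_top _, rfl⟩

theorem act_homS (a : A) (s : ℕ) (x : (lcs K).Ring') (hx : x ∈ homS (⊤ : Subgroup K) s) :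
    lieAct a x ∈ homS (⊤ : Subgroup K) s := by
  obtain ⟨g, hg, -, rfl⟩ := hx
  rw [lieAct_mk]
  exact ⟨_, _, mem_top _, rfl⟩

theorem top_le_homS : (⊤ : AddSubgroup (lcs K).Ring') ≤
    AddSubgroup.closure {x | ∃ s, x ∈ homS (⊤ : Subgroup K) s} := fun x _ => by
  induction x using (lcs K).induction with
  | h0 => exact zero_mem _
  | hadd x y hx hy => exact add_mem (hx (AddSubgroup.mem_top x)) (hy (AddSubgroup.mem_top y))
  | hmk s g hg => exact AddSubgroup.subset_closure ⟨s, g, hg, mem_top g, rfl⟩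

/-- Invariant subgroups of a degree are spanned by their fixed points of hyperplanes. -/
theorem split_homS (hS : Setup p A K) {ι : Type*} (Bof : ι → Subgroup A)
    (hBsurj : ∀ B : Subgroup A, B.index ≤ p → ∃ i, Bof i = B) (s : ℕ) (X : AddSubgroup (lcs K).Ring')
    (hX : X ≤ homS (⊤ : Subgroup K) s) (hXi : ∀ a, ∀ x ∈ X, lieAct (A := A) a x ∈ X) :
    X ≤ AddSubgroup.closure {x | x ∈ X ∧ ∃ i, x ∈ homS (Fx (Bof i) : Subgroup K) s} := by
  intro x hx
  obtain ⟨g, hg, -, rfl⟩ := hX hx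
  let Y : Subgroup K :=
    { carrier := {g | ∃ hg : g ∈ (lcs K).H s, (lcs K).mk s g hg ∈
        AddSubgroup.closure {x | x ∈ X ∧ ∃ i, x ∈ homS (Fx (Bof i) : Subgroup K) s}}
      one_mem' := ⟨one_mem _, by rw [(lcs K).mk_eq_zero.mpr (one_mem _)]; exact zero_mem _⟩
      mul_mem' := fun {a b} ⟨ha, ha'⟩ ⟨hb, hb'⟩ => ⟨mul_mem ha hb, by
        rw [(lcs K).mk_mul _ ha hb]; exact add_mem ha' hb'⟩
      inv_mem' := fun {a} ⟨ha, ha'⟩ => ⟨inv_mem ha, by
        rw [(lcs K).mk_inv _ ha]; exact neg_mem ha'⟩ }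
  let R : Subgroup K :=
    { carrier := {g | ∃ hg : g ∈ (lcs K).H s, (lcs K).mk s g hg ∈ X}
      one_mem' := ⟨one_mem _, by rw [(lcs K).mk_eq_zero.mpr (one_mem _)]; exact zero_mem _⟩
      mul_mem' := fun {a b} ⟨ha, ha'⟩ ⟨hb, hb'⟩ => ⟨mul_mem ha hb, by
        rw [(lcs K).mk_mul _ ha hb]; exact add_mem ha' hb'⟩
      inv_mem' := fun {a} ⟨ha, ha'⟩ => ⟨inv_mem ha, by
        rw [(lcs K).mk_inv _ ha]; exact neg_mem ha'⟩ }
  have hR : Inv A R := by
    rintro a y ⟨hy, hyX⟩
    refine ⟨act_mem_H a s y hy, ?_⟩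
    have h1 := hXi a _ hyX
    rwa [lieAct_mk] at h1
  have hRY : R ≤ Y := le_of_hyperplanes hS hR fun B hB y hy => by
    obtain ⟨i, rfl⟩ := hBsurj B hB
    obtain ⟨hy1, hy2⟩ := hy.1
    exact ⟨hy1, AddSubgroup.subset_closure ⟨hy2, i, y, hy1, hy.2, rfl⟩⟩
  obtain ⟨hg', h2⟩ := hRY (show g ∈ R from ⟨hg, hx⟩)
  exact h2

theorem appL_mk (T : Subgroup K) : ∀ (l : List (ℕ × (lcs K).Ring')) (s : ℕ) (g : K) (hg : g ∈ (lcs K).H s),
    (∀ e ∈ l, e.2 ∈ homS T e.1) → ∃ hs : List K, hs.length = l.length ∧ (∀ h ∈ hs, h ∈ T) ∧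
      ∃ hg' : hs.foldl (fun y h => ⁅y, h⁆) g ∈ (lcs K).H (s + (l.map Prod.fst).sum),
        appL Prod.snd ((lcs K).mk s g hg) l = (lcs K).mk _ _ hg' := by
  intro l
  induction l with
  | nil => intro s g hg _; exact ⟨[], rfl, by simp, hg, rfl⟩
  | cons e l ih =>
    intro s g hg hl
    obtain ⟨h, hh, hhB, he⟩ := hl e (List.mem_cons_self ..)
    obtain ⟨hs, hlen, hhs, hg', heq⟩ := ih (s + e.1) ⁅g, h⁆ ((lcs K).comm_mem le_rfl hg hh)
      fun e' he' => hl e' (List.mem_cons_of_mem _ he')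
    refine ⟨h :: hs, by simp [hlen], ?_, ?_, ?_⟩
    · intro h' hh'
      rcases List.mem_cons.1 hh' with rfl | hh'
      exacts [hhB, hhs h' hh']
    · rw [List.foldl_cons, List.map_cons, List.sum_cons, ← Nat.add_assoc]; exact hg'
    · show appL Prod.snd ⁅(lcs K).mk s g hg, e.2⁆ l = _
      rw [← he, (lcs K).lie_mk hg hh, heq]
      exact (lcs K).mk_congr (by simp [List.sum_cons, Nat.add_assoc]) rfl _ _

/-- The associated Lie ring as a frame. -/
def frame (hS : Setup p A K) {ι : Type*} (Bof : ι → Subgroup A)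
    (hBsurj : ∀ B : Subgroup A, B.index ≤ p → ∃ i, Bof i = B) (N : ℕ)
    (hstar : ∀ (i : ι) (s : ℕ) (g : K) (hs : List K), g ∈ (lcs K).H s → (∀ h ∈ hs, h ∈ (Fx (Bof i) : Subgroup K)) →
      N ≤ hs.length → hs.foldl (fun y h => ⁅y, h⁆) g ∈ (lcs K).H (s + s)) :
    Frame (lcs K).Ring' ι A where
  deg := fun s => homS (⊤ : Subgroup K) s
  hom := fun i s => homS (Fx (Bof i) : Subgroup K) s
  act := lieAct
  N := N
  deg_zero := deg_zero_lie
  deg_lie := lie_homS
  top_homog := top_le_homS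
  hom_le := fun i s => homS_le_top _ s
  act_lie := fun a x y => (lcs K).mapAut_lie _ _ x y
  act_deg := act_homS
  split := split_homS hS Bof hBsurj
  star := by
    rintro i s _ ⟨g, hg, -, rfl⟩ l hl hN hsum
    obtain ⟨hs, hlen, hhs, hg', heq⟩ := appL_mk _ l s g hg hl
    rw [heq, (lcs K).mk_eq_zero]
    exact (lcs K).anti (show s + (l.map Prod.fst).sum + 1 ≤ s + s by omega) (hstar i s g hs hg hhs (hlen ▸ hN))

end lie

/-- Long commutators with fixed points fall deep in the series. -/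
theorem foldl_deep (hS : Setup p A G) (hsol : Group.IsSolvable G) (w : CW) {c k : ℕ}
    (hk : Nat.card A = p ^ k) (hA : p ^ (w.leaves + 2) ≤ Nat.card A) (hc : ClassHyp (G := G) A w c)
    {K : Subgroup G} [K.Normal] (hK : K = w.val (⊤ : Subgroup G)) (hKi : Inv A K) (B : Subgroup A)
    (hB : B.index ≤ p) :
    letI := subAction hKi
    ∀ (s : ℕ) (g : K) (hs : List K), g ∈ (lcs K).H s → (∀ h ∈ hs, h ∈ (Fx B : Subgroup K)) →
      nilBound p k c ≤ hs.length → hs.foldl (fun y h => ⁅y, h⁆) g ∈ (lcs K).H (s + s) := by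
  letI := subAction hKi
  intro s g hs hg hhs hN
  have hchs : ∀ n, ((lcs K).H n).Characteristic := fun n =>
    Subgroup.lowerCentralSeries_characteristic (⊤ : Subgroup K) (n - 1)
  haveI := hchs s
  haveI := hchs (s + s)
  have hsect : Sect (((lcs K).H s).map K.subtype) (((lcs K).H (s + s)).map K.subtype) :=
    ⟨inferInstance, inferInstance, map_mono ((lcs K).anti (by omega)), by
      rw [← map_commutator]; exact map_mono ((lcs K).comm s s)⟩
  have hRi : Inv A (((lcs K).H s).map K.subtype) := by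
    rintro a _ ⟨z, hz, rfl⟩
    exact ⟨a • z, act_mem_H a s z hz, rfl⟩
  have hkill := kills_fixed hS hsol w hk hA hc hsect hRi B hB
  have h1 := hsect.foldl_mem hkill (x := (g : G)) (mem_map_of_mem _ hg) (hs.map Subtype.val)
    (fun y hy => by
      obtain ⟨h, hh, rfl⟩ := List.mem_map.1 hy
      exact ⟨hK ▸ h.2, fun e he => congrArg Subtype.val (hhs h hh e he)⟩)
    (by rw [List.length_map]; exact hN)
  have hmap : ∀ (hs : List K) (g : K), ((hs.foldl (fun y h => ⁅y, h⁆) g : K) : G) =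
      (hs.map Subtype.val).foldl (fun y h => ⁅y, h⁆) (g : G) := by
    intro hs
    induction hs with
    | nil => intro g; rfl
    | cons h hs ih =>
      intro g
      rw [List.foldl_cons, List.map_cons, List.foldl_cons, ih]
      rfl
  rw [← hmap] at h1
  obtain ⟨z, hz, hze⟩ := h1
  obtain rfl := Subtype.ext hze
  exact hz

/-- Every hyperplane is a grade. -/
theorem exists_grades {q k : ℕ} (hq : q.Prime) (hk : Nat.card A = q ^ k) :
    ∃ Bof : Grade q k → Subgroup A, (∀ i, (Bof i).index ≤ q) ∧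
      ∀ B : Subgroup A, B.index ≤ q → ∃ i, Bof i = B := by
  classical
  obtain ⟨eA⟩ : Nonempty (A ≃ Fin (q ^ k)) := Nonempty.intro ((Finite.equivFin A).trans (finCongr hk))
  refine ⟨fun i => if h : (Subgroup.closure (eA ⁻¹' i)).index ≤ q then Subgroup.closure (eA ⁻¹' i) else ⊤,
    fun i => ?_, fun B hB => ⟨eA '' (B : Set A), ?_⟩⟩
  · dsimp only
    split_ifs with h
    · exact h
    · rw [index_top]; exact hq.one_lt.le
  · dsimp only
    have e : Subgroup.closure (eA ⁻¹' (eA '' (B : Set A))) = B := by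
      rw [Set.preimage_image_eq _ eA.injective, Subgroup.closure_eq]
    rw [dif_pos (e.symm ▸ hB), e]

set_option maxHeartbeats 2000000 in
/-- The class of the verbal subgroup is bounded. -/
theorem class_bound (hS : Setup p A G) (w : CW) {c k : ℕ} (hk : Nat.card A = p ^ k) (hk3 : 3 ≤ k)
    (hm : w.leaves + 2 ≤ k) (hc : ClassHyp (G := G) A w c) :
    (w.val (⊤ : Subgroup G)).lowerCentralSeries (classFn p k c w.leaves) = ⊥ := by
  classical
  haveI hp := Fact.mk hS.prime
  have hA : p ^ (w.leaves + 2) ≤ Nat.card A := hk ▸ Nat.pow_le_pow_right hS.prime.pos hm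
  have hsol : Group.IsSolvable G :=
    isSolvable_of_nilHyp hS w (hk ▸ Nat.pow_le_pow_right hS.prime.pos hk3) hc.nilHyp
  obtain ⟨K, hK⟩ : ∃ K, K = w.val (⊤ : Subgroup G) := ⟨_, rfl⟩
  rw [← hK]
  haveI hKn : K.Normal := hK ▸ CW.val_normal w
  haveI hKnil : Group.IsNilpotent K := hK ▸ isNilpotent_val hS hsol w hA hc.nilHyp
  have hKi : Inv A K := hK ▸ inv_val inv_top w
  letI := subAction hKi
  have hS' : Setup p A K := setup_sub hS K
  have hchar : ∀ (a : A) (s : ℕ) (x : K), x ∈ (lcs K).H s →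
      a • x ∈ (lcs K).H s := fun a s x hx => act_mem_H a s x hx
  -- the grades
  obtain ⟨Bof, hBof, hBsurj⟩ := exists_grades (A := A) hS.prime hk
  -- the frame
  obtain ⟨F, hFN, hFact, hFdeg⟩ : ∃ F : Frame (lcs K).Ring' (Grade p k) A, F.N = nilBound p k c ∧ F.act = lieAct ∧
      F.deg = fun s => homS (⊤ : Subgroup K) s :=
    ⟨frame hS' Bof hBsurj (nilBound p k c)
      (fun i => foldl_deep hS hsol w hk hA hc hK hKi (Bof i) (hBof i)), rfl, rfl, rfl⟩
  have hW : F.width = stepWidth p k c := by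
    rw [Frame.width, hFN]
    rw [Fintype.card_set, Fintype.card_fin]; rfl
  -- one operator
  obtain ⟨a, ha⟩ : ∃ a : A, a ≠ 1 := by
    by_contra hno
    push Not at hno
    haveI : Subsingleton A := ⟨fun x y => (hno x).trans (hno y).symm⟩
    rw [Nat.card_unique] at hk
    exact absurd hk.symm (Nat.one_lt_pow (by omega) hS.prime.one_lt).ne'
  let T : ℕ → Subgroup K := fun i => ((CW.bal i).val (Fx (zpowers a) : Subgroup G)).comap K.subtype
  have hT : ∀ i, ⁅T i, T i⁆ ≤ T (i + 1) := fun i => by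
    rw [← map_le_iff_le_comap, map_commutator]
    exact commutator_mono (map_comap_le _ _) (map_comap_le _ _)
  have hTc : ⁅T 0, T 0⁆ ≤ T 0 := (hT 0).trans (comap_mono (CW.bal_anti _ (Nat.zero_le 1)))
  have hUg : F.Good (spanS (T 0)) := by
    refine ⟨(AddSubgroup.closure_le _).2 ?_, fun b => ?_⟩
    · rintro _ ⟨s, g, hg, hgT, rfl⟩
      exact AddSubgroup.subset_closure ⟨mem_spanS hg hgT, s, by rw [hFdeg]; exact ⟨g, hg, mem_top g, rfl⟩⟩
    · have h : spanS (T 0) ≤ (spanS (T 0)).comap (F.act b) := by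
        refine (AddSubgroup.closure_le _).2 ?_
        rintro _ ⟨s, g, hg, hgT, rfl⟩
        show F.act b ((lcs K).mk s g hg) ∈ spanS (T 0)
        rw [hFact, lieAct_mk]
        exact mem_spanS _ (inv_Fx hS.comm (zpowers a) b (g : G) hgT)
      exact fun x hx => h hx
  have hDU : D (spanS (T 0)) (w.leaves + c) = ⊥ := by
    have h : ∀ i, D (spanS (T 0)) i ≤ spanS (T i) := by
      intro i
      induction i with
      | zero => exact le_rfl
      | succ i ih => exact (br_mono ih ih).trans (br_spanS (hT i))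
    refine le_bot_iff.1 ((h _).trans (le_of_eq ?_))
    have hz : (CW.bal (w.leaves + c)).val (Fx (zpowers a) : Subgroup G) = ⊥ := by
      rw [CW.bal_add]
      exact le_bot_iff.1 (((CW.val_mono (CW.bal_le_val _ w) _).trans (CW.bal_le_lcs _ c)).trans (hc a ha).le)
    have : T (w.leaves + c) = ⊥ := by
      show Subgroup.comap _ _ = _
      rw [hz, MonoidHom.comap_bot, Subgroup.ker_subtype]
    rw [this, spanS_bot]
  have hq : iterL ⊤ (spanS (T 0)) (nilDeg p k c w.leaves) = ⊥ := by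
    have := F.nil_of_derived hUg (br_spanS hTc) hDU
    rwa [hW] at this
  -- the whole Lie ring is solvable
  let Φ : (lcs K).Ring' →+ (lcs K).Ring' := lieAct a
  have hiter : ∀ (n s : ℕ) (x : K), x ∈ (lcs K).H s →
      ((MulDistribMulAction.toMulAut A K a) ^ n) x ∈ (lcs K).H s := fun n s x hx => by
    rw [← map_pow]; exact hchar _ s x hx
  have hper : ∀ x, (⇑Φ)^[p] x = x := by
    intro x
    induction x using (lcs K).induction with
    | h0 => exact iterate_map_zero Φ p
    | hadd x y hx hy => rw [iterate_map_add, hx, hy]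
    | hmk s g hg =>
      show (⇑((lcs K).mapAut _ _))^[p] _ = _
      rw [(lcs K).mapAut_iterate _ _ p hg (hiter p s g hg)]
      exact (lcs K).mk_congr rfl (by rw [← map_pow, hS.exp, map_one]; rfl) _ _
  have hnorm : ∀ x, ∑ i ∈ Finset.range p, (⇑Φ)^[i] x ∈ spanS (T 0) := by
    intro x
    induction x using (lcs K).induction with
    | h0 => simp [iterate_map_zero]
    | hadd x y hx hy => simp only [iterate_map_add, Finset.sum_add_distrib]; exact add_mem hx hy
    | hmk s g hg =>
      obtain ⟨h, hh, hsum⟩ : ∃ h, ∃ hh : h ∈ (lcs K).H s,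
          ∑ i ∈ Finset.range p, (⇑Φ)^[i] ((lcs K).mk s g hg) = (lcs K).mk s h hh := by
        generalize p = n
        induction n with
        | zero => exact ⟨1, one_mem _, by
            rw [Finset.range_zero, Finset.sum_empty, eq_comm, (lcs K).mk_eq_zero]; exact one_mem _⟩
        | succ n ih =>
          obtain ⟨h, hh, hsum⟩ := ih
          refine ⟨h * ((MulDistribMulAction.toMulAut A K a) ^ n) g, mul_mem hh (hiter n s g hg), ?_⟩
          rw [Finset.sum_range_succ, hsum]
          show _ + (⇑((lcs K).mapAut _ _))^[n] _ = _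
          rw [(lcs K).mapAut_iterate _ _ n hg (hiter n s g hg), (lcs K).mk_mul]
      have hfix : Φ ((lcs K).mk s h hh) = (lcs K).mk s h hh := by
        rw [← hsum, map_sum]
        simp only [← Function.iterate_succ_apply']
        have h1 := Finset.sum_range_succ' (fun i => (⇑Φ)^[i] ((lcs K).mk s g hg)) p
        rw [Finset.sum_range_succ, hper] at h1
        exact (add_right_cancel h1).symm
      have hNn := (lcs K).normal (s + 1)
      have hNi : Inv A ((lcs K).H (s + 1)) := fun b y hy => hchar b (s + 1) y hy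
      have h2 : h⁻¹ * a • h ∈ (lcs K).H (s + 1) := by
        have h3 : a • h * h⁻¹ ∈ (lcs K).H (s + 1) := by
          rw [← (lcs K).mk_eq_zero (hx := mul_mem (hchar a s h hh) (inv_mem hh)),
            (lcs K).mk_mul _ (hchar a s h hh) (inv_mem hh), (lcs K).mk_inv _ hh]
          have h4 : (lcs K).mk s (a • h) (hchar a s h hh) = Φ ((lcs K).mk s h hh) := by
            show _ = (lcs K).mapAut _ _ _
            rw [(lcs K).mapAut_mk]; rfl
          rw [h4, hfix, add_neg_cancel]
        have := hNn.conj_mem _ h3 h⁻¹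
        rwa [inv_inv, mul_assoc, inv_mul_cancel_right] at this
      obtain ⟨n, hn, hhn⟩ := exists_fix_in_coset hS' hNi (zpowers a) (x := h) (fun e he => by
        obtain ⟨j, rfl⟩ : ∃ j : ℕ, a ^ j = e := by
          have := (isOfFinOrder_of_finite a).mem_powers_iff_mem_zpowers.2 he
          exact Submonoid.mem_powers_iff _ _ |>.1 this
        induction j with
        | zero => rw [pow_zero, one_smul, inv_mul_cancel]; exact one_mem _
        | succ j ih =>
          have e1 : h⁻¹ * a ^ (j + 1) • h = h⁻¹ * a • h * a • (h⁻¹ * a ^ j • h) := by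
            rw [smul_mul', ← mul_smul, ← pow_succ', smul_inv', mul_assoc, mul_inv_cancel_left]
          rw [e1]
          exact mul_mem h2 (hNi a _ (ih (pow_mem (mem_zpowers a) j))))
      have hhn' : h * n ∈ (lcs K).H s := mul_mem hh ((lcs K).anti (Nat.le_succ s) hn)
      rw [hsum, ← (lcs K).mk_eq_of_mem (hx := hhn') (hy := hh) (hNn.conj_mem n hn h)]
      exact mem_spanS _ (fun e he => congrArg Subtype.val (hhn e he))
  have hD : D (⊤ : AddSubgroup (lcs K).Ring') (krBound (nilDeg p k c w.leaves) (p - 1)) = ⊥ :=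
    D_eq_bot_of_norm p Φ (fun x y => (lcs K).mapAut_lie _ _ x y) hper (spanS (T 0)) hnorm hq
      ((hS.prime.coprime_iff_not_dvd.2 hS'.cop).symm) fun x => (lcs K).nsmul_card x
  obtain ⟨M, hM⟩ : ∃ M, M = classFn p k c w.leaves := ⟨_, rfl⟩
  rw [← hM]
  have hC : C M = (⊥ : AddSubgroup (lcs K).Ring') := by
    rw [C_eq_iterL, hM, classFn, ← hW]
    exact le_bot_iff.1 (F.lowerBound_of_derived F.good_top le_top _ ⊥ F.good_bot bot_le
      (br_le fun x hx y _ => by rw [AddSubgroup.mem_bot.1 hx, zero_lie]; exact zero_mem _) hD.le)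
  have hstep : (⊤ : Subgroup K).lowerCentralSeries M ≤ (⊤ : Subgroup K).lowerCentralSeries (M + 1) := fun g hg => by
    have h := mk_mem_C M g hg
    rw [hC, AddSubgroup.mem_bot] at h
    exact (lcs K).mk_eq_zero.mp h
  have hall : ∀ j, (⊤ : Subgroup K).lowerCentralSeries M ≤ (⊤ : Subgroup K).lowerCentralSeries (M + j) := by
    intro j
    induction j with
    | zero => exact le_rfl
    | succ j ih =>
      refine hstep.trans ?_
      rw [Subgroup.lowerCentralSeries_succ, ← Nat.add_assoc, Subgroup.lowerCentralSeries_succ]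
      exact commutator_mono ih le_rfl
  obtain ⟨n, hn⟩ := _root_.nilpotent_iff_lowerCentralSeries.mp hKnil
  rw [← top_subtype_lowerCentralSeries, map_eq_bot_iff_of_injective _ K.subtype_injective]
  refine le_bot_iff.mp ((hall n).trans (hn ▸ ?_))
  exact Subgroup.lowerCentralSeries_antitone _ (Nat.le_add_left n M)

end CfsgLib.HallGen.RankWord
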