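import Cfsg.Agent.Lib.HallGen.RankWord.Generate

/-!
# The fixed points of a hyperplane act nilpotently on abelian sections

* `Kills`: a subgroup acts on a section with a bounded degree of nilpotency
* `kills_fixed`: the fixed points in the verbal subgroup do
-/

set_option autoImplicit false
set_option linter.all false

namespace CfsgLib.HallGen.RankWord

open Subgroup
open scoped commutatorElement

universe u v

variable {G : Type u} [Group G]

/-- An abelian invariant section. -/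
structure Sect (R S : Subgroup G) : Prop where
  normalR : R.Normal
  normalS : S.Normal
  le : S ≤ R
  comm : ⁅R, R⁆ ≤ S

/-- Iterated commutators of a section with a subgroup. -/
def iter (R S T : Subgroup G) : ℕ → Subgroup G
  | 0 => R
  | n + 1 => ⁅iter R S T n, T⁆ ⊔ S

/-- A subgroup acting nilpotently on a section. -/
def Kills (R S T : Subgroup G) (n : ℕ) : Prop := iter R S T n ≤ S

theorem conj_commutator_mem {g : G} {H K : Subgroup G} (hH : ∀ h ∈ H, g * h * g⁻¹ ∈ H)
    (hK : ∀ k ∈ K, g * k * g⁻¹ ∈ K) {z : G} (hz : z ∈ ⁅H, K⁆) : g * z * g⁻¹ ∈ ⁅H, K⁆ := by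
  have h : ⁅H, K⁆ ≤ ⁅H, K⁆.comap (MulAut.conj g).toMonoidHom := commutator_le.2 fun a ha b hb => by
    show g * ⁅a, b⁆ * g⁻¹ ∈ ⁅H, K⁆
    have e : g * ⁅a, b⁆ * g⁻¹ = ⁅g * a * g⁻¹, g * b * g⁻¹⁆ := by simp [commutatorElement_def, mul_assoc]
    rw [e]
    exact commutator_mem_commutator (hH a ha) (hK b hb)
  exact h hz

theorem conj_sup_mem {g : G} {H K : Subgroup G} (hH : ∀ h ∈ H, g * h * g⁻¹ ∈ H ⊔ K)
    (hK : ∀ k ∈ K, g * k * g⁻¹ ∈ H ⊔ K) {z : G} (hz : z ∈ H ⊔ K) : g * z * g⁻¹ ∈ H ⊔ K :=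
  (sup_le hH hK : H ⊔ K ≤ (H ⊔ K).comap (MulAut.conj g).toMonoidHom) hz

/-- Brackets with a supremum. -/
theorem commutator_iSup_le {ι : Sort*} {Y Z : Subgroup G} (T : ι → Subgroup G)
    (h : ∀ i, ⁅Y, T i⁆ ≤ Z) (hn : ∀ i, ∀ t ∈ T i, ∀ z ∈ Z, t * z * t⁻¹ ∈ Z) : ⁅Y, ⨆ i, T i⁆ ≤ Z := by
  let U : Subgroup G :=
    { carrier := {t | (∀ y ∈ Y, ⁅y, t⁆ ∈ Z) ∧ (∀ z ∈ Z, t * z * t⁻¹ ∈ Z) ∧ ∀ z ∈ Z, t⁻¹ * z * t ∈ Z}
      one_mem' := ⟨fun y _ => by rw [commutatorElement_one_right]; exact one_mem _,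
        fun z hz => by simpa using hz, fun z hz => by simpa using hz⟩
      mul_mem' := fun {a b} ha hb => ⟨fun y hy => by
          rw [show ⁅y, a * b⁆ = ⁅y, a⁆ * (a * ⁅y, b⁆ * a⁻¹) by simp [commutatorElement_def, mul_assoc]]
          exact mul_mem (ha.1 y hy) (ha.2.1 _ (hb.1 y hy)),
        fun z hz => by
          rw [show a * b * z * (a * b)⁻¹ = a * (b * z * b⁻¹) * a⁻¹ by group]
          exact ha.2.1 _ (hb.2.1 z hz),
        fun z hz => by
          rw [show (a * b)⁻¹ * z * (a * b) = b⁻¹ * (a⁻¹ * z * a) * b by group]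
          exact hb.2.2 _ (ha.2.2 z hz)⟩
      inv_mem' := fun {a} ha => ⟨fun y hy => by
          rw [show ⁅y, a⁻¹⁆ = a⁻¹ * ⁅y, a⁆⁻¹ * a by simp [commutatorElement_def, mul_assoc]]
          exact ha.2.2 _ (inv_mem (ha.1 y hy)),
        fun z hz => by rw [inv_inv]; exact ha.2.2 z hz,
        fun z hz => by rw [inv_inv]; exact ha.2.1 z hz⟩ }
  have hU : (⨆ i, T i) ≤ U := iSup_le fun i t ht => ⟨fun y hy => h i (commutator_mem_commutator hy ht),
    hn i t ht, fun z hz => by simpa using hn i t⁻¹ (inv_mem ht) z hz⟩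
  exact commutator_le.2 fun y hy t ht => (hU ht).1 y hy

namespace Sect

variable {R S T T₁ T₂ : Subgroup G} (h : Sect R S)
include h

/-- A subgroup between the bottom and the top is normalised by the top. -/
theorem conj_mem {Z : Subgroup G} (hSZ : S ≤ Z) (hZR : Z ≤ R) {x z : G} (hx : x ∈ R) (hz : z ∈ Z) :
    x * z * x⁻¹ ∈ Z := by
  have h1 : ⁅x, z⁆ ∈ Z := hSZ (h.comm (commutator_mem_commutator hx (hZR hz)))
  have := mul_mem h1 hz
  rwa [commutatorElement_def, inv_mul_cancel_right] at this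

/-- Brackets of a subgroup of the section given on generators. -/
theorem commutator_le_of_closure {Z : Subgroup G} (hSZ : S ≤ Z) (hZR : Z ≤ R) {s : Set G} (hs : s ⊆ R)
    {Y : Subgroup G} (hY : Y ≤ closure s) (hT : ∀ y ∈ s, ∀ t ∈ T, ⁅y, t⁆ ∈ Z) : ⁅Y, T⁆ ≤ Z := by
  let U : Subgroup G :=
    { carrier := {y | y ∈ R ∧ ∀ t ∈ T, ⁅y, t⁆ ∈ Z}
      one_mem' := ⟨one_mem _, fun t _ => by rw [commutatorElement_one_left]; exact one_mem _⟩
      mul_mem' := fun {a b} ha hb => ⟨mul_mem ha.1 hb.1, fun t ht => by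
        rw [commutatorElement_mul_left_eq_conj_mul]
        exact mul_mem (h.conj_mem hSZ hZR ha.1 (hb.2 t ht)) (ha.2 t ht)⟩
      inv_mem' := fun {a} ha => ⟨inv_mem ha.1, fun t ht => by
        rw [show ⁅a⁻¹, t⁆ = a⁻¹ * ⁅a, t⁆⁻¹ * a⁻¹⁻¹ by simp [commutatorElement_def, mul_assoc]]
        exact h.conj_mem hSZ hZR (inv_mem ha.1) (inv_mem (ha.2 t ht))⟩ }
  have hU : Y ≤ U := hY.trans ((closure_le _).2 fun y hy => ⟨hs hy, hT y hy⟩)
  exact commutator_le.2 fun y hy t ht => (hU hy).2 t ht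

theorem le_iter : ∀ n, S ≤ iter R S T n
  | 0 => h.le
  | n + 1 => le_sup_right

theorem iter_le : ∀ n, iter R S T n ≤ R
  | 0 => le_rfl
  | n + 1 => sup_le ((commutator_mono (iter_le n) le_top).trans (by
      haveI := h.normalR
      exact commutator_le_left R ⊤)) h.le

theorem iter_conj {g : G} (hg : ∀ t ∈ T, g * t * g⁻¹ ∈ T) :
    ∀ n, ∀ z ∈ iter R S T n, g * z * g⁻¹ ∈ iter R S T n
  | 0 => fun z hz => h.normalR.conj_mem z hz g
  | n + 1 => fun z hz => conj_sup_mem (fun a ha => mem_sup_left (conj_commutator_mem (iter_conj hg n) hg ha))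
      (fun a ha => mem_sup_right (h.normalS.conj_mem a ha g)) hz

theorem iter_succ_le : ∀ n, iter R S T (n + 1) ≤ iter R S T n
  | 0 => h.iter_le 1
  | n + 1 => sup_le ((commutator_mono (iter_succ_le n) le_rfl).trans le_sup_left) le_sup_right

theorem iter_mono (hT : T₁ ≤ T₂) : ∀ n, iter R S T₁ n ≤ iter R S T₂ n
  | 0 => le_rfl
  | n + 1 => sup_le_sup (commutator_mono (iter_mono hT n) hT) le_rfl

theorem kills_mono {n : ℕ} (hT : T₁ ≤ T₂) (hk : Kills R S T₂ n) : Kills R S T₁ n := (h.iter_mono hT n).trans hk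

theorem kills_bot : Kills R S ⊥ 1 := sup_le (by rw [commutator_bot_right]; exact bot_le) le_rfl

theorem kills_of_le {a b : ℕ} (hab : a ≤ b) (hk : Kills R S T a) : Kills R S T b := by
  induction hab with
  | refl => exact hk
  | step _ ih => exact (h.iter_succ_le _).trans ih

/-- Two subgroups, the second normalising the first. -/
theorem kills_sup {a b : ℕ} (hn : ∀ t ∈ T₂, ∀ x ∈ T₁, t * x * t⁻¹ ∈ T₁) (h₁ : Kills R S T₁ a)
    (h₂ : Kills R S T₂ b) : Kills R S (T₁ ⊔ T₂) (a * b) := by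
  suffices hmain : ∀ j, iter R S (T₁ ⊔ T₂) (j * b) ≤ iter R S T₁ j from (hmain a).trans h₁
  intro j
  induction j with
  | zero => rw [Nat.zero_mul]; exact le_rfl
  | succ j ih =>
    obtain ⟨Y, hY⟩ : ∃ Y, Y = iter R S T₁ j := ⟨_, rfl⟩
    obtain ⟨Y', hY'⟩ : ∃ Y', Y' = iter R S T₁ (j + 1) := ⟨_, rfl⟩
    have hYY : Y' ≤ Y := hY ▸ hY' ▸ h.iter_succ_le j
    have hcomm1 : ⁅Y, T₁⁆ ≤ Y' := hY ▸ hY' ▸ le_sup_left
    have hYR : Y ≤ R := hY ▸ h.iter_le j
    have hSY : S ≤ Y' := hY' ▸ h.le_iter (j + 1)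
    suffices hstep : ∀ i, iter R S (T₁ ⊔ T₂) (j * b + i) ≤ (Y ⊓ iter R S T₂ i) ⊔ Y' by
      rw [Nat.succ_mul, ← hY']
      exact (hstep b).trans (sup_le ((inf_le_right.trans h₂).trans hSY) le_rfl)
    intro i
    induction i with
    | zero =>
      refine le_trans ?_ le_sup_left
      exact le_inf (hY ▸ ih) (h.iter_le _)
    | succ i ihi =>
      obtain ⟨Z, hZ⟩ : ∃ Z, Z = (Y ⊓ iter R S T₂ (i + 1)) ⊔ Y' := ⟨_, rfl⟩
      have hZY : Z ≤ Y := hZ ▸ sup_le inf_le_left hYY
      have hY'Z : Y' ≤ Z := hZ ▸ le_sup_right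
      rw [← hZ]
      refine sup_le ((commutator_mono ihi le_rfl).trans ?_) (hSY.trans hY'Z)
      have hT12 : T₁ ⊔ T₂ = ⨆ e : Bool, cond e T₁ T₂ := by rw [iSup_bool_eq]; rfl
      rw [hT12]
      refine commutator_iSup_le _ ?_ ?_
      · intro e
        cases e
        · show ⁅(Y ⊓ iter R S T₂ i) ⊔ Y', T₂⁆ ≤ Z
          refine h.commutator_le_of_closure (hSY.trans hY'Z) (hZY.trans hYR)
            (s := ((Y ⊓ iter R S T₂ i : Subgroup G) : Set G) ∪ Y') ?_ ?_ ?_
          · rintro y (hy | hy)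
            exacts [hYR hy.1, hYR (hYY hy)]
          · exact sup_le (fun y hy => subset_closure (Or.inl hy)) fun y hy => subset_closure (Or.inr hy)
          · rintro y (hy | hy) t ht
            · rw [hZ]
              refine mem_sup_left ⟨?_, mem_sup_left (commutator_mem_commutator hy.2 ht)⟩
              have hy1 := hy.1
              rw [hY] at hy1 ⊢
              rw [commutatorElement_def, mul_assoc, mul_assoc, ← mul_assoc t]
              exact mul_mem hy1 (h.iter_conj (hn t ht) j _ (inv_mem hy1))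
            · refine hY'Z ?_
              rw [hY'] at hy ⊢
              rw [commutatorElement_def, mul_assoc, mul_assoc, ← mul_assoc t]
              exact mul_mem hy (h.iter_conj (hn t ht) (j + 1) _ (inv_mem hy))
        · show ⁅(Y ⊓ iter R S T₂ i) ⊔ Y', T₁⁆ ≤ Z
          exact (commutator_mono (sup_le inf_le_left hYY) le_rfl).trans (hcomm1.trans hY'Z)
      · intro e
        cases e
        · intro t (ht : t ∈ T₂) z hz
          rw [hZ] at hz ⊢
          refine conj_sup_mem (H := Y ⊓ iter R S T₂ (i + 1)) (K := Y') (fun y hy => mem_sup_left ⟨?_, ?_⟩)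
            (fun y hy => mem_sup_right ?_) hz
          · have hy1 := hy.1
            rw [hY] at hy1 ⊢
            exact h.iter_conj (hn t ht) j y hy1
          · exact h.iter_conj (fun x hx => mul_mem (mul_mem ht hx) (inv_mem ht)) (i + 1) y hy.2
          · rw [hY'] at hy ⊢
            exact h.iter_conj (hn t ht) (j + 1) y hy
        · intro t (ht : t ∈ T₁) z hz
          have h1 : ⁅z, t⁆⁻¹ * z ∈ Z :=
            mul_mem (inv_mem (hY'Z (hcomm1 (commutator_mem_commutator (hZY hz) ht)))) hz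
          rwa [show ⁅z, t⁆⁻¹ * z = t * z * t⁻¹ by simp [commutatorElement_def, mul_assoc]] at h1

/-- A finite family of subgroups normalising each other. -/
theorem kills_biSup {ι : Type*} (T : ι → Subgroup G) {d : ℕ} (hd : ∀ i, Kills R S (T i) d)
    (hn : ∀ i j, ∀ t ∈ T j, ∀ x ∈ T i, t * x * t⁻¹ ∈ T i) (s : Finset ι) :
    Kills R S (⨆ i ∈ s, T i) (d ^ s.card) := by
  classical
  induction s using Finset.induction_on with
  | empty => simpa using h.kills_bot
  | insert a s has ih =>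
    rw [Finset.iSup_insert, Finset.card_insert_of_notMem has, pow_succ']
    refine h.kills_sup ?_ (hd a) ih
    intro t ht
    have hle : (⨆ i ∈ s, T i) ≤ normalizer (T a : Set G) := iSup₂_le fun i _ x hx => by
      refine mem_normalizer_iff.2 fun y => ⟨hn a i x hx y, fun hy => ?_⟩
      have h1 := hn a i x⁻¹ (inv_mem hx) _ hy
      rwa [show x⁻¹ * (x * y * x⁻¹) * x⁻¹⁻¹ = y by group] at h1
    exact fun x hx => (mem_normalizer_iff.1 (hle ht) x).1 hx

/-- Iterated commutators with the elements of a killing subgroup. -/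
theorem foldl_mem {n : ℕ} (hk : Kills R S T n) {x : G} (hx : x ∈ R) (l : List G) (hl : ∀ g ∈ l, g ∈ T)
    (hn : n ≤ l.length) : l.foldl (fun y g => ⁅y, g⁆) x ∈ S := by
  suffices hmain : ∀ (l : List G) (i : ℕ) (y : G), y ∈ iter R S T i → (∀ g ∈ l, g ∈ T) →
      l.foldl (fun y g => ⁅y, g⁆) y ∈ iter R S T (i + l.length) by
    have h1 := hmain l 0 x hx hl
    rw [Nat.zero_add] at h1
    exact (h.kills_of_le hn hk) h1
  intro l
  induction l with
  | nil => intro i y hy _; exact hy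
  | cons g l ih =>
    intro i y hy hl
    rw [List.foldl_cons, List.length_cons, ← Nat.add_assoc, Nat.add_right_comm]
    exact ih (i + 1) _ (mem_sup_left (commutator_mem_commutator hy (hl g (List.mem_cons_self ..))))
      fun g' hg' => hl g' (List.mem_cons_of_mem _ hg')

end Sect

variable {A : Type v} [Group A] [Finite A] {p : ℕ} [Finite G] [MulDistribMulAction A G]

/-- The hypothesis on the classes of the verbal subgroups of the centralisers. -/
def ClassHyp (A : Type v) [Group A] [MulDistribMulAction A G] (w : CW) (c : ℕ) : Prop :=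
  ∀ a : A, a ≠ 1 → (w.val (Fx (zpowers a) : Subgroup G)).lowerCentralSeries c = ⊥

theorem ClassHyp.nilHyp {w : CW} {c : ℕ} (h : ClassHyp (G := G) A w c) : NilHyp (G := G) A w := fun a ha =>
  (isNilpotent_iff_lowerCentralSeries _).2 ⟨c, h a ha⟩

/-- A verbal subgroup of fixed points of a large subgroup of operators acts with bounded nilpotency. -/
theorem kills_piece (hS : Setup p A G) (w : CW) {c : ℕ} (hA : p ^ (w.leaves + 2) ≤ Nat.card A)
    (hc : ClassHyp (G := G) A w c) {R S : Subgroup G} (h : Sect R S) (hR : Inv A R) {D : Subgroup A}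
    (hD : D.index ≤ p ^ w.leaves) : Kills R S (w.val (Fx D)) (c + 1) := by
  let Z : ℕ → Subgroup G := fun i =>
    (⨆ a : {a : A // a ∈ D ∧ a ≠ 1}, R ⊓ (w.val (Fx (zpowers a.1) : Subgroup G)).lowerCentralSeries i) ⊔ S
  have hZR : ∀ i, Z i ≤ R := fun i => sup_le (iSup_le fun a => inf_le_left) h.le
  have hTW : ∀ a ∈ D, w.val (Fx D : Subgroup G) ≤ w.val (Fx (zpowers a) : Subgroup G) := fun a ha =>
    CW.val_mono (Fx_anti (zpowers_le.2 ha)) w
  haveI := h.normalR
  suffices hmain : ∀ i, iter R S (w.val (Fx D)) (i + 1) ≤ Z i by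
    refine (hmain c).trans (sup_le (iSup_le fun a => ?_) le_rfl)
    rw [hc a.1 a.2.2]
    exact inf_le_right.trans bot_le
  intro i
  induction i with
  | zero =>
    refine sup_le ?_ le_sup_right
    refine h.commutator_le_of_closure le_sup_right (hZR 0)
      (s := {x | x ∈ R ∧ ∃ B : Subgroup A, B.index ≤ p ∧ x ∈ (Fx B : Subgroup G)}) (fun x hx => hx.1)
      (le_of_hyperplanes hS hR fun B hB x hx => subset_closure ⟨hx.1, B, hB, hx.2⟩) ?_
    rintro y ⟨hyR, B, hB, hyB⟩ t ht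
    obtain ⟨a, ha, ha1⟩ := exists_common hS hD hB hA
    refine mem_sup_left (mem_iSup_of_mem ⟨a, ha.1, ha1⟩ ⟨commutator_le_left R ⊤ (commutator_mem_commutator hyR (mem_top t)), ?_⟩)
    rw [Subgroup.lowerCentralSeries_zero]
    have htW := hTW a ha.1 ht
    have hyC : y ∈ (Fx (zpowers a) : Subgroup G) := Fx_anti (zpowers_le.2 ha.2) hyB
    refine (w.val (Fx (zpowers a) : Subgroup G)).mul_mem ?_ ((w.val (Fx (zpowers a) : Subgroup G)).inv_mem htW)
    refine CW.conj_val ?_ w htW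
    refine le_antisymm ?_ fun z hz => ⟨y⁻¹ * z * y, mul_mem (mul_mem (inv_mem hyC) hz) hyC, by simp [mul_assoc]⟩
    rintro _ ⟨z, hz, rfl⟩
    exact mul_mem (mul_mem hyC hz) (inv_mem hyC)
  | succ i ih =>
    refine sup_le ((commutator_mono ih le_rfl).trans ?_) le_sup_right
    refine h.commutator_le_of_closure le_sup_right (hZR _)
      (s := {x | (∃ a : {a : A // a ∈ D ∧ a ≠ 1},
        x ∈ R ⊓ (w.val (Fx (zpowers a.1) : Subgroup G)).lowerCentralSeries i) ∨ x ∈ S}) ?_ ?_ ?_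
    · rintro x (⟨a, hx⟩ | hx)
      exacts [hx.1, h.le hx]
    · exact sup_le (iSup_le fun a x hx => subset_closure (Or.inl ⟨a, hx⟩)) fun x hx => subset_closure (Or.inr hx)
    · rintro x (⟨a, hx⟩ | hx) t ht
      · refine mem_sup_left (mem_iSup_of_mem a ⟨commutator_le_left R ⊤ (commutator_mem_commutator hx.1 (mem_top t)), ?_⟩)
        rw [Subgroup.lowerCentralSeries_succ]
        exact commutator_mem_commutator hx.2 (hTW a.1 a.2.1 ht)
      · haveI := h.normalS
        exact mem_sup_right (commutator_le_left S ⊤ (commutator_mem_commutator hx (mem_top t)))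

/-- The degree of nilpotency. -/
def nilBound (p k c : ℕ) : ℕ := ((c + 1) ^ 2 ^ p ^ k) * ((c + 1) ^ 2 ^ p ^ k)

/-- The fixed points of a hyperplane in the verbal subgroup act with bounded nilpotency. -/
theorem kills_fixed (hS : Setup p A G) (hsol : Group.IsSolvable G) (w : CW) {c k : ℕ}
    (hk : Nat.card A = p ^ k) (hA : p ^ (w.leaves + 2) ≤ Nat.card A) (hc : ClassHyp (G := G) A w c)
    {R S : Subgroup G} (h : Sect R S) (hR : Inv A R) (B : Subgroup A) (hB : B.index ≤ p) :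
    Kills R S (w.val ⊤ ⊓ Fx B) (nilBound p k c) := by
  classical
  haveI : Fintype (Subgroup A) := Fintype.ofFinite _
  let T : Subgroup A → Subgroup A → Subgroup G := fun B' D =>
    if D.index ≤ p ^ w.leaves ∧ D ≤ B' then w.val (Fx D) ⊓ Fx B' else ⊥
  have hkT : ∀ B' D, Kills R S (T B' D) (c + 1) := by
    intro B' D
    show Kills R S (if _ then _ else _) _
    split_ifs with hD
    · exact h.kills_mono inf_le_left (kills_piece hS w hA hc h hR hD.1)
    · exact h.kills_of_le (Nat.succ_le_succ (Nat.zero_le c)) h.kills_bot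
  have hTle : ∀ B' D, T B' D ≤ Fx B' := by
    intro B' D
    show (if _ then _ else _) ≤ _
    split_ifs
    exacts [inf_le_right, bot_le]
  have hnorm : ∀ B' D, ∀ t ∈ (Fx B' : Subgroup G), ∀ x ∈ T B' D, t * x * t⁻¹ ∈ T B' D := by
    intro B' D t ht x hx
    by_cases hD : D.index ≤ p ^ w.leaves ∧ D ≤ B'
    · have e : T B' D = w.val (Fx D) ⊓ Fx B' := if_pos hD
      rw [e] at hx ⊢
      refine ⟨?_, (Fx B' : Subgroup G).mul_mem ((Fx B' : Subgroup G).mul_mem ht hx.2) ((Fx B' : Subgroup G).inv_mem ht)⟩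
      have htD : t ∈ (Fx D : Subgroup G) := Fx_anti hD.2 ht
      refine CW.conj_val ?_ w hx.1
      refine le_antisymm ?_ fun z hz => ⟨t⁻¹ * z * t, mul_mem (mul_mem (inv_mem htD) hz) htD, by simp [mul_assoc]⟩
      rintro _ ⟨z, hz, rfl⟩
      exact mul_mem (mul_mem htD hz) (inv_mem htD)
    · have e : T B' D = ⊥ := if_neg hD
      rw [e, mem_bot] at hx ⊢
      rw [hx, mul_one, mul_inv_cancel]
  have hQ : ∀ B', Kills R S (⨆ D ∈ (Finset.univ : Finset (Subgroup A)), T B' D) ((c + 1) ^ 2 ^ p ^ k) := by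
    intro B'
    refine h.kills_of_le ?_ (h.kills_biSup (T B') (hkT B') (fun i j t ht => hnorm B' i t (hTle B' j ht)) _)
    refine Nat.pow_le_pow_right (Nat.succ_pos c) ?_
    haveI := Fintype.ofFinite A
    rw [Finset.card_univ, ← Nat.card_eq_fintype_card, ← hk]
    refine le_trans (Nat.card_le_card_of_injective (fun D : Subgroup A => (D : Set A)) SetLike.coe_injective) ?_
    rw [Nat.card_eq_fintype_card, Fintype.card_set, ← Nat.card_eq_fintype_card]
  have htop : ∀ x ∈ (⨆ D ∈ (Finset.univ : Finset (Subgroup A)), T ⊤ D), x ∈ (Fx B : Subgroup G) := fun x hx =>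
    Fx_anti le_top ((iSup₂_le fun D _ => hTle ⊤ D) hx)
  refine h.kills_mono ?_ (h.kills_sup (T₁ := ⨆ D ∈ (Finset.univ : Finset (Subgroup A)), T B D)
    (T₂ := ⨆ D ∈ (Finset.univ : Finset (Subgroup A)), T ⊤ D) ?_ (hQ B) (hQ ⊤))
  · refine (gen hS hsol w B hB).trans ((closure_le _).2 ?_)
    rintro x ⟨-, hxB, D, hD, hxD⟩
    by_cases hDB : D ≤ B
    · refine mem_sup_left (mem_iSup_of_mem D (mem_iSup_of_mem (Finset.mem_univ D) ?_))
      have e : T B D = w.val (Fx D) ⊓ Fx B := if_pos ⟨hD, hDB⟩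
      rw [e]
      exact ⟨hxD, hxB⟩
    · refine mem_sup_right (mem_iSup_of_mem D (mem_iSup_of_mem (Finset.mem_univ D) ?_))
      have e : T ⊤ D = w.val (Fx D) ⊓ Fx ⊤ := if_pos ⟨hD, le_top⟩
      rw [e]
      refine ⟨hxD, ?_⟩
      have hlt : B < B ⊔ D := lt_of_le_of_ne le_sup_left fun e' => hDB (e' ▸ le_sup_right)
      have h1 : B.index = p := by
        obtain ⟨i, -, hi⟩ := (Nat.dvd_prime_pow hS.prime).1 (hk ▸ B.index_dvd_card)
        rcases Nat.eq_zero_or_pos i with rfl | hi0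
        · rw [pow_zero, index_eq_one] at hi
          exact absurd (hi.symm ▸ le_top) hDB
        · exact le_antisymm hB (hi ▸ Nat.le_self_pow hi0.ne' p)
      have h2 : (B ⊔ D).index = 1 := by
        have h3 := index_strictAnti hlt
        rw [h1] at h3
        exact ((Nat.dvd_prime hS.prime).1 (h1 ▸ index_dvd_of_le le_sup_left)).resolve_right (ne_of_lt h3)
      rw [index_eq_one] at h2
      have h4 : B ⊔ D ≤ MulAction.stabilizer A x := sup_le (fun e he => hxB e he) fun e he => CW.val_le _ w hxD e he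
      exact fun e _ => h4 (h2 ▸ mem_top e)
  · intro t ht x hx
    have ht' := htop t ht
    have hle : (⨆ D ∈ (Finset.univ : Finset (Subgroup A)), T B D) ≤
        (⨆ D ∈ (Finset.univ : Finset (Subgroup A)), T B D).comap (MulAut.conj t).toMonoidHom :=
      iSup₂_le fun D hD y hy => mem_comap.2 (mem_iSup_of_mem D (mem_iSup_of_mem hD (hnorm B D t ht' y hy)))
    exact hle hx

end CfsgLib.HallGen.RankWord
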