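import Cfsg.Agent.Lib.HallGen.RankWord.Basic
import Cfsg.Agent.Lib.ClassSizes.Basic

/-!
# Outer commutator words and their series along a normal subgroup

* `CW`, `val`: outer commutator words and their verbal subgroups
* `Ser`, `H`: the series `H w n` of a word along a series `S`
* `gen_step`: pieces generate, given that they generate at degree zero
-/

set_option autoImplicit false
set_option linter.all false

namespace CfsgLib.HallGen.RankWord

open Subgroup
open scoped commutatorElement

/-- Outer commutator words. -/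
inductive CW
  | leaf
  | node (u v : CW)

namespace CW

/-- The number of variables. -/
def leaves : CW → ℕ
  | leaf => 1
  | node u v => u.leaves + v.leaves

/-- The verbal subgroup in a subgroup. -/
def val {G : Type*} [Group G] : CW → Subgroup G → Subgroup G
  | leaf, H => H
  | node u v, H => ⁅u.val H, v.val H⁆

/-- The left normed word in `n + 1` variables. -/
def comb : ℕ → CW
  | 0 => leaf
  | n + 1 => node (comb n) leaf

/-- The derived word. -/
def bal : ℕ → CW
  | 0 => leaf
  | n + 1 => node (bal n) (bal n)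

theorem leaves_comb : ∀ n, (comb n).leaves = n + 1
  | 0 => rfl
  | n + 1 => by rw [comb, leaves, leaves_comb n]; rfl

theorem leaves_bal : ∀ n, (bal n).leaves = 2 ^ n
  | 0 => rfl
  | n + 1 => by rw [bal, leaves, leaves_bal n, pow_succ]; omega

theorem val_comb {G : Type*} [Group G] (H : Subgroup G) : ∀ n, (comb n).val H = H.lowerCentralSeries n
  | 0 => rfl
  | n + 1 => by rw [comb, val, val_comb H n, Subgroup.lowerCentralSeries_succ]; rfl

theorem map_val {G G' : Type*} [Group G] [Group G'] (f : G →* G') (H : Subgroup G) :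
    ∀ w : CW, (w.val H).map f = w.val (H.map f)
  | leaf => rfl
  | node u v => by rw [val, map_commutator, map_val f H u, map_val f H v]; rfl

theorem val_bal {G : Type*} [Group G] (H : Subgroup G) :
    ∀ n, (bal n).val H = (derivedSeries H n).map H.subtype
  | 0 => by rw [derivedSeries_zero, ← MonoidHom.range_eq_map, range_subtype]; rfl
  | n + 1 => by rw [bal, val, val_bal H n, derivedSeries_succ, map_commutator]

theorem val_mono {G : Type*} [Group G] {H K : Subgroup G} (h : H ≤ K) : ∀ w : CW, w.val H ≤ w.val K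
  | leaf => h
  | node u v => commutator_mono (val_mono h u) (val_mono h v)

theorem val_le {G : Type*} [Group G] (H : Subgroup G) : ∀ w : CW, w.val H ≤ H
  | leaf => le_rfl
  | node u v => commutator_le.2 fun a ha b hb => by
      rw [commutatorElement_def]
      exact H.mul_mem (H.mul_mem (H.mul_mem (val_le H u ha) (val_le H v hb)) (H.inv_mem (val_le H u ha)))
        (H.inv_mem (val_le H v hb))

theorem conj_val {G : Type*} [Group G] {H : Subgroup G} {g : G}
    (h : H.map (MulAut.conj g).toMonoidHom = H) (w : CW) {x : G} (hx : x ∈ w.val H) : g * x * g⁻¹ ∈ w.val H := by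
  have h1 : g * x * g⁻¹ ∈ (w.val H).map (MulAut.conj g).toMonoidHom := ⟨x, hx, rfl⟩
  rwa [map_val, h] at h1

theorem val_normal {G : Type*} [Group G] : ∀ w : CW, (w.val (⊤ : Subgroup G)).Normal
  | leaf => by show (⊤ : Subgroup G).Normal; infer_instance
  | node u v => by
      haveI := val_normal (G := G) u
      haveI := val_normal (G := G) v
      exact Subgroup.commutator_normal _ _

theorem val_bot {G : Type*} [Group G] (w : CW) : w.val (⊥ : Subgroup G) = ⊥ := le_bot_iff.1 (val_le ⊥ w)

end CW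

variable {A G : Type*} [Group A] [Group G] [MulDistribMulAction A G]

theorem smul_commutatorElement (a : A) (x y : G) : a • ⁅x, y⁆ = ⁅a • x, a • y⁆ := by
  simp only [commutatorElement_def, smul_mul', smul_inv']

theorem Inv.commutator {H K : Subgroup G} (hH : Inv A H) (hK : Inv A K) : Inv A ⁅H, K⁆ := fun a => by
  have h : ⁅H, K⁆ ≤ ⁅H, K⁆.comap (MulDistribMulAction.toMonoidHom G a) := commutator_le.2 fun x hx y hy => by
    show a • ⁅x, y⁆ ∈ ⁅H, K⁆
    rw [smul_commutatorElement]
    exact commutator_mem_commutator (hH a x hx) (hK a y hy)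
  exact fun h' hh => h hh

theorem inv_val {H : Subgroup G} (hH : Inv A H) : ∀ w : CW, Inv A (w.val H)
  | .leaf => hH
  | .node u v => Inv.commutator (inv_val hH u) (inv_val hH v)

theorem Inv.iSup {ι : Sort*} {H : ι → Subgroup G} (h : ∀ i, Inv A (H i)) : Inv A (⨆ i, H i) := fun a => by
  have h' : (⨆ i, H i) ≤ (⨆ i, H i).comap (MulDistribMulAction.toMonoidHom G a) :=
    iSup_le fun i x hx => mem_iSup_of_mem i (h i a x hx)
  exact fun x hx => h' hx

theorem Inv.sup {H K : Subgroup G} (hH : Inv A H) (hK : Inv A K) : Inv A (H ⊔ K) := fun a => by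
  have h' : H ⊔ K ≤ (H ⊔ K).comap (MulDistribMulAction.toMonoidHom G a) :=
    sup_le (fun x hx => mem_sup_left (hH a x hx)) (fun x hx => mem_sup_right (hK a x hx))
  exact fun x hx => h' hx

/-- A descending series from the group with the commutator property. -/
structure Ser (A : Type*) (G : Type*) [Group A] [Group G] [MulDistribMulAction A G] where
  S : ℕ → Subgroup G
  zero : S 0 = ⊤
  anti : Antitone S
  comm : ∀ a b, ⁅S a, S b⁆ ≤ S (a + b)
  normal : ∀ a, (S a).Normal
  invariant : ∀ a, Inv A (S a)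
  last : ∃ N, S N = ⊥

namespace Ser

variable (σ : Ser A G)

/-- The series of a word. -/
def H : CW → ℕ → Subgroup G
  | .leaf, n => σ.S n
  | .node u v, n => ⨆ a : Fin (n + 1), ⁅H u a.val, H v (n - a.val)⁆

theorem H_normal : ∀ (w : CW) (n : ℕ), (σ.H w n).Normal
  | .leaf, n => σ.normal n
  | .node u v, n => by
      haveI h : ∀ a : Fin (n + 1), (⁅σ.H u a.val, σ.H v (n - a.val)⁆ : Subgroup G).Normal := fun a => by
        haveI := H_normal u a.val
        haveI := H_normal v (n - a.val)
        exact Subgroup.commutator_normal _ _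
      exact Subgroup.iSup_normal _

theorem inv_H : ∀ (w : CW) (n : ℕ), Inv A (σ.H w n)
  | .leaf, n => σ.invariant n
  | .node u v, n => Inv.iSup fun a => (inv_H u a.val).commutator (inv_H v _)

theorem H_anti : ∀ w : CW, Antitone (σ.H w)
  | .leaf => σ.anti
  | .node u v => antitone_nat_of_succ_le fun n => iSup_le fun a => by
      rcases Nat.lt_or_ge a.val (n + 1) with h | h
      · exact le_iSup_of_le (⟨a.val, h⟩ : Fin (n + 1)) (commutator_mono le_rfl (H_anti v (by
          show n - a.val ≤ n + 1 - a.val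
          omega)))
      · exact le_iSup_of_le (⟨n, by omega⟩ : Fin (n + 1)) (commutator_mono (H_anti u (by
          show n ≤ a.val
          omega)) (H_anti v (by show n - n ≤ n + 1 - a.val; omega)))

theorem commutator_le_H {u v : CW} {a b n : ℕ} (h : n ≤ a + b) : ⁅σ.H u a, σ.H v b⁆ ≤ σ.H (.node u v) n := by
  refine le_trans ?_ (σ.H_anti (.node u v) h)
  refine le_iSup_of_le (⟨a, by omega⟩ : Fin (a + b + 1)) (commutator_mono le_rfl (le_of_eq ?_))
  rw [Nat.add_sub_cancel_left]

theorem H_comm_S : ∀ (w : CW) (n c : ℕ), ⁅σ.H w n, σ.S c⁆ ≤ σ.H w (n + c)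
  | .leaf, n, c => σ.comm n c
  | .node u v, n, c => by
      haveI := σ.H_normal (.node u v) (n + c)
      rw [Subgroup.commutator_le]
      intro x hx y hy
      have hle : σ.H (.node u v) n ≤ Subgroup.comap (QuotientGroup.mk' (σ.H (.node u v) (n + c)))
          (centralizer ((σ.S c).map (QuotientGroup.mk' (σ.H (.node u v) (n + c))) : Set _)) := by
        refine iSup_le fun a => ?_
        rw [← map_le_iff_le_comap, ← commutator_eq_bot_iff_le_centralizer, ← map_commutator,
          Subgroup.map_eq_bot_iff, QuotientGroup.ker_mk']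
        refine CfsgLib.ClassSizes.three_subgroup_le _ ?_ ?_
        · rw [Subgroup.commutator_comm]
          exact (commutator_mono le_rfl (H_comm_S v _ c)).trans (σ.commutator_le_H (by omega))
        · refine (commutator_mono ?_ le_rfl).trans (σ.commutator_le_H (a := a.val + c) (b := n - a.val) (by omega))
          rw [Subgroup.commutator_comm]
          exact H_comm_S u _ c
      have h2 := mem_centralizer_iff.1 (hle hx) _ (mem_map_of_mem _ hy)
      rw [← QuotientGroup.eq_one_iff]
      exact (map_commutatorElement (QuotientGroup.mk' (σ.H (.node u v) (n + c))) x y).trans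
        (commutatorElement_eq_one_iff_mul_comm.2 h2.symm)

theorem H_le_S : ∀ (w : CW) (n : ℕ), σ.H w n ≤ σ.S n
  | .leaf, _ => le_rfl
  | .node u v, n => iSup_le fun a => (commutator_mono (H_le_S u _) (H_le_S v _)).trans
      ((σ.comm _ _).trans (σ.anti (by omega)))

theorem H_le_left (u v : CW) (n : ℕ) : σ.H (.node u v) n ≤ σ.H u n :=
  iSup_le fun a => (commutator_mono le_rfl (σ.H_le_S v _)).trans
    ((σ.H_comm_S u _ _).trans (σ.H_anti u (by omega)))

theorem H_le_right (u v : CW) (n : ℕ) : σ.H (.node u v) n ≤ σ.H v n :=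
  iSup_le fun a => by
    rw [Subgroup.commutator_comm]
    exact (commutator_mono le_rfl (σ.H_le_S u _)).trans ((σ.H_comm_S v _ _).trans (σ.H_anti v (by omega)))

theorem H_zero : ∀ w : CW, σ.H w 0 = w.val ⊤
  | .leaf => σ.zero
  | .node u v => by
      show (⨆ a : Fin 1, ⁅σ.H u a.val, σ.H v (0 - a.val)⁆) = _
      rw [iSup_unique]
      show ⁅σ.H u 0, σ.H v 0⁆ = _
      rw [H_zero u, H_zero v]; rfl

theorem H_le_val (w : CW) (n : ℕ) : σ.H w n ≤ w.val ⊤ := σ.H_zero w ▸ σ.H_anti w (Nat.zero_le n)

theorem H_last (w : CW) : ∃ N, σ.H w N = ⊥ := by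
  obtain ⟨N, hN⟩ := σ.last
  exact ⟨N, le_bot_iff.1 ((σ.H_le_S w N).trans hN.le)⟩

end Ser

variable (p : ℕ)

/-- The pieces of a word: its values in the fixed points of operators of small corank. -/
def Piece (A : Type*) [Group A] [MulDistribMulAction A G] (w : CW) (x : G) : Prop :=
  ∃ D : Subgroup A, D.index ≤ p ^ w.leaves ∧ x ∈ w.val (Fx D)

/-- The pieces in a subgroup fixed by a subgroup of operators. -/
def pcs (A : Type*) [Group A] [MulDistribMulAction A G] (w : CW) (R : Subgroup G) (B : Subgroup A) : Set G :=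
  {x | x ∈ R ∧ x ∈ (Fx B : Subgroup G) ∧ Piece p A w x}

variable {p}

theorem closure_pcs_le (w : CW) (R : Subgroup G) (B : Subgroup A) : closure (pcs p A w R B) ≤ R ⊓ Fx B :=
  (closure_le _).2 fun _ hx => ⟨hx.1, hx.2.1⟩

theorem pcs_mono (w : CW) {R R' : Subgroup G} (h : R ≤ R') (B : Subgroup A) :
    closure (pcs p A w R B) ≤ closure (pcs p A w R' B) :=
  closure_mono fun _ hx => ⟨h hx.1, hx.2⟩

theorem piece_comm {u v : CW} {x y : G} (hx : Piece p A u x) (hy : Piece p A v y) :
    ∃ D : Subgroup A, D.index ≤ p ^ (CW.node u v).leaves ∧ ⁅x, y⁆ ∈ (CW.node u v).val (Fx D) := by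
  obtain ⟨D, hD, hxD⟩ := hx
  obtain ⟨D', hD', hyD⟩ := hy
  refine ⟨D ⊓ D', index_inf_le.trans ?_, commutator_mem_commutator
    (CW.val_mono (Fx_anti inf_le_left) u hxD) (CW.val_mono (Fx_anti inf_le_right) v hyD)⟩
  rw [CW.leaves, pow_add]
  exact Nat.mul_le_mul hD hD'

variable [Finite A] [Finite G]

omit [Finite A] in
theorem mem_normalizer_of_conj (Z : Subgroup G) {k : G} (h : ∀ z ∈ Z, k * z * k⁻¹ ∈ Z) :
    k ∈ normalizer (Z : Set G) := by
  have hfin : (Z : Set G).Finite := Set.toFinite _
  have hsurj : Set.SurjOn (fun z => k * z * k⁻¹) (Z : Set G) (Z : Set G) :=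
    hfin.surjOn_iff_bijOn_of_mapsTo (fun z hz => h z hz) |>.2 ⟨fun z hz => h z hz,
      fun a _ b _ e => mul_left_cancel (mul_right_cancel e), by
        intro y hy
        have := (Set.Finite.injOn_iff_bijOn_of_mapsTo hfin (fun z hz => h z hz)).1
          (fun a _ b _ e => mul_left_cancel (mul_right_cancel e))
        exact this.surjOn hy⟩
  refine mem_normalizer_iff.2 fun y => ⟨h y, fun hy => ?_⟩
  obtain ⟨z, hz, e⟩ := hsurj hy
  obtain rfl : z = y := mul_left_cancel (mul_right_cancel e)
  exact hz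

/-- The set of all pieces in a term generates it when the fixed points do. -/
theorem le_closure_pieces (hS : Setup p A G) (w : CW) {R : Subgroup G} (hR : Inv A R)
    (h : ∀ B : Subgroup A, B.index ≤ p → R ⊓ Fx B ≤ closure (pcs p A w R B)) :
    R ≤ closure {x | x ∈ R ∧ Piece p A w x} :=
  le_of_hyperplanes hS hR fun B hB => (h B hB).trans (closure_mono fun _ hx => ⟨hx.1, hx.2.2⟩)

/-- In a factor of the series the products of pieces contain the fixed points. -/
theorem fixed_of_span (hS : Setup p A G) (σ : Ser A G) (w : CW) {n : ℕ} (hn : 1 ≤ n)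
    (hspan : σ.H w n ≤ closure {x | x ∈ σ.H w n ∧ Piece p A w x} ⊔ σ.H w (n + 1))
    (B : Subgroup A) {x : G} (hx : x ∈ σ.H w n ⊓ Fx B) :
    ∃ c ∈ closure (pcs p A w (σ.H w n) B), c⁻¹ * x ∈ σ.H w (n + 1) := by
  classical
  haveI := Fintype.ofFinite B
  obtain ⟨R, hRdef⟩ : ∃ R, R = σ.H w (n + 1) := ⟨_, rfl⟩
  obtain ⟨K, hKdef⟩ : ∃ K, K = σ.H w n := ⟨_, rfl⟩
  rw [← hRdef, ← hKdef] at hspan ⊢
  haveI : R.Normal := hRdef ▸ σ.H_normal w (n + 1)
  have hKinv : Inv A K := hKdef ▸ σ.inv_H w n
  have hRinv : Inv A R := hRdef ▸ σ.inv_H w (n + 1)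
  have hRK : R ≤ K := hRdef ▸ hKdef ▸ σ.H_anti w (Nat.le_succ n)
  let π := QuotientGroup.mk' R
  haveI hXc : IsMulCommutative (K.map π) := IsMulCommutative.of_comm fun a b => by
    obtain ⟨_, a', ha', rfl⟩ := a
    obtain ⟨_, b', hb', rfl⟩ := b
    refine Subtype.ext ?_
    show π a' * π b' = π b' * π a'
    rw [← commutatorElement_eq_one_iff_mul_comm, ← map_commutatorElement]
    refine (QuotientGroup.eq_one_iff _).2 ?_
    rw [hKdef] at ha' hb'
    rw [hRdef]
    exact σ.H_anti w (show n + 1 ≤ n + n by omega)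
      (σ.H_comm_S w n n (commutator_mem_commutator ha' (σ.H_le_S w n hb')))
  open scoped IsMulCommutative in
  let F : K →* K.map π :=
    { toFun := fun y => ∏ b : B, (⟨π ((b : A) • (y : G)), mem_map_of_mem π (hKinv b y y.2)⟩ : K.map π)
      map_one' := Finset.prod_eq_one fun b _ => Subtype.ext (by simp)
      map_mul' := fun y z => by
        rw [← Finset.prod_mul_distrib]
        exact Finset.prod_congr rfl fun b _ => Subtype.ext (by simp [smul_mul']) }
  let P : Subgroup (K.map π) := ((closure (pcs p A w K B)).map π).subgroupOf (K.map π)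
  have hmain : K ≤ (P.comap F).map K.subtype := by
    have hPR : ∀ y (hy : y ∈ K), y ∈ R → F ⟨y, hy⟩ = 1 := by
      intro y hy hyR
      open scoped IsMulCommutative in
      exact Finset.prod_eq_one fun b _ => Subtype.ext ((QuotientGroup.eq_one_iff _).2 (hRinv b y hyR))
    refine hspan.trans (sup_le ((closure_le _).2 ?_) fun y hy => ?_)
    · rintro y ⟨hyK, D, hD, hyD⟩
      refine ⟨⟨y, hyK⟩, ?_, rfl⟩
      let Q : Subgroup G := K ⊓ w.val (Fx D)
      have hQinv : Inv A Q := hKinv.inf (inv_val (inv_Fx hS.comm D) w)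
      have hF : (F ⟨y, hyK⟩ : G ⧸ R) ∈ Q.map π := by
        have h : F ⟨y, hyK⟩ ∈ (Q.map π).subgroupOf (K.map π) := by
          open scoped IsMulCommutative in
          exact Subgroup.prod_mem _ fun b _ => mem_map_of_mem π (hQinv b y ⟨hyK, hyD⟩)
        exact h
      obtain ⟨q, hq, hqF⟩ := hF
      have hfix : ∀ b ∈ B, q⁻¹ * b • q ∈ Q ⊓ R := by
        intro b hb
        refine ⟨Q.mul_mem (Q.inv_mem hq) (hQinv b q hq), ?_⟩
        refine (QuotientGroup.eq.1 ?_)
        show π q = π (b • q)
        have hind : ∀ g h : G, π g = π h → π (b • g) = π (b • h) := fun g h e => by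
          have h1 := hRinv b _ (QuotientGroup.eq.1 e)
          rw [smul_mul', smul_inv'] at h1
          exact QuotientGroup.eq.2 h1
        let ψ : K.map π →* K.map π :=
          { toFun := fun z => ⟨π (b • (mem_map.1 z.2).choose), mem_map_of_mem π
              (hKinv b _ (mem_map.1 z.2).choose_spec.1)⟩
            map_one' := Subtype.ext (by
              show π (b • _) = 1
              rw [hind _ 1 ((mem_map.1 (one_mem (K.map π))).choose_spec.2.trans (map_one π).symm), smul_one, map_one])
            map_mul' := fun z z' => Subtype.ext (by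
              show π (b • _) = π (b • _) * π (b • _)
              rw [← map_mul, ← smul_mul']
              refine hind _ _ ?_
              rw [(mem_map.1 (z * z').2).choose_spec.2, map_mul, (mem_map.1 z.2).choose_spec.2,
                (mem_map.1 z'.2).choose_spec.2]
              rfl) }
        have hψ : ∀ g (hg : g ∈ K), ψ ⟨π g, mem_map_of_mem π hg⟩ = ⟨π (b • g), mem_map_of_mem π (hKinv b g hg)⟩ :=
          fun g hg => Subtype.ext (hind _ _ (mem_map.1 (mem_map_of_mem π hg)).choose_spec.2)
        open scoped IsMulCommutative in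
        have h2 : ψ (F ⟨y, hyK⟩) = F ⟨y, hyK⟩ := by
          show ψ (∏ c : B, _) = ∏ c : B, _
          rw [map_prod]
          refine Fintype.prod_equiv (Equiv.mulLeft (⟨b, hb⟩ : B)) _ _ fun c => ?_
          rw [hψ _ (hKinv c y hyK)]
          refine Subtype.ext ?_
          show π (b • (c : A) • y) = π ((b * (c : A)) • y)
          rw [mul_smul]
        have h3 : (ψ (F ⟨y, hyK⟩) : G ⧸ R) = π (b • q) := hind _ _
          ((mem_map.1 (F ⟨y, hyK⟩).2).choose_spec.2.trans hqF.symm)
        rw [← h3, h2, hqF]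
      obtain ⟨r, hr, hqr⟩ := exists_fix_in_coset hS (hQinv.inf hRinv) B hfix
      show (F ⟨y, hyK⟩ : G ⧸ R) ∈ (closure (pcs p A w K B)).map π
      refine ⟨q * r, subset_closure ⟨K.mul_mem hq.1 hr.1.1, hqr, D, hD, mul_mem hq.2 hr.1.2⟩, ?_⟩
      rw [← hqF, map_mul, show π r = 1 from (QuotientGroup.eq_one_iff r).2 hr.2, mul_one]
    · exact ⟨⟨y, hRK hy⟩, by show F _ ∈ P; rw [hPR y _ hy]; exact one_mem _, rfl⟩
  rw [← hKdef] at hx
  obtain ⟨y, hy, hye⟩ := hmain hx.1
  obtain rfl : y = ⟨x, hx.1⟩ := Subtype.ext hye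
  have hF : (F ⟨x, hx.1⟩ : G ⧸ R) = π (x ^ Nat.card B) := by
    open scoped IsMulCommutative in
    show ((∏ b : B, (⟨π ((b : A) • x), _⟩ : K.map π) : K.map π) : G ⧸ R) = _
    rw [Finset.prod_congr rfl fun (b : B) _ => show (⟨π ((b : A) • x), _⟩ : K.map π) = ⟨π x, mem_map_of_mem π hx.1⟩ from
      Subtype.ext (congrArg π (hx.2 b b.2)), Finset.prod_const, Finset.card_univ, ← Nat.card_eq_fintype_card, map_pow]
    rfl
  obtain ⟨c, hc, hce⟩ := show (F ⟨x, hx.1⟩ : G ⧸ R) ∈ (closure (pcs p A w K B)).map π from hy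
  rw [hF, map_pow] at hce
  obtain ⟨m, hm⟩ := exists_pow_eq_self_of_coprime (x := π x)
    ((hS.coprime B _ ((orderOf_map_dvd π x).trans (orderOf_dvd_natCard x))))
  refine ⟨c ^ m, pow_mem hc m, QuotientGroup.eq.1 ?_⟩
  show π (c ^ m) = π x
  rw [map_pow, hce, hm]

/-- Pieces generate, given that they generate at degree zero. -/
theorem gen_step (hS : Setup p A G) (σ : Ser A G)
    (h0 : ∀ (w : CW) (B : Subgroup A), B.index ≤ p → ∀ x ∈ σ.H w 0 ⊓ Fx B,
      ∃ c ∈ closure (pcs p A w (σ.H w 0) B), c⁻¹ * x ∈ σ.H w 1) :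
    ∀ (w : CW) (n : ℕ) (B : Subgroup A), B.index ≤ p → σ.H w n ⊓ Fx B ≤ closure (pcs p A w (σ.H w n) B) := by
  intro w
  induction w with
  | leaf =>
    intro n B hB x hx
    refine subset_closure ⟨hx.1, hx.2, B, ?_, hx.2⟩
    rw [CW.leaves, pow_one]; exact hB
  | node u v ihu ihv =>
    obtain ⟨N, hN⟩ := σ.H_last (.node u v)
    suffices hmain : ∀ j n : ℕ, N ≤ n + j → ∀ B : Subgroup A, B.index ≤ p →
        σ.H (.node u v) n ⊓ Fx B ≤ closure (pcs p A (.node u v) (σ.H (.node u v) n) B) from
      fun n => hmain N n (by omega)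
    intro j
    induction j with
    | zero =>
      intro n hn B _ x hx
      have h := σ.H_anti (.node u v) (show N ≤ n by omega) hx.1
      rw [hN, mem_bot] at h
      rw [h]; exact one_mem _
    | succ j ih =>
      intro n hn B hB x hx
      suffices hstep : ∃ c ∈ closure (pcs p A (.node u v) (σ.H (.node u v) n) B), c⁻¹ * x ∈ σ.H (.node u v) (n + 1) by
        obtain ⟨c, hc, hcx⟩ := hstep
        have h2 := pcs_mono (.node u v) (σ.H_anti (.node u v) (Nat.le_succ n)) B (ih (n + 1) (by omega) B hB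
          ⟨hcx, (Fx B : Subgroup G).mul_mem ((Fx B : Subgroup G).inv_mem (closure_pcs_le _ _ _ hc).2) hx.2⟩)
        have := mul_mem hc h2
        rwa [mul_inv_cancel_left] at this
      rcases Nat.eq_zero_or_pos n with rfl | hn0
      · exact h0 (.node u v) B hB x hx
      refine fixed_of_span hS σ (.node u v) hn0 ?_ B hx
      obtain ⟨R, hR⟩ : ∃ R, R = σ.H (.node u v) (n + 1) := ⟨_, rfl⟩
      obtain ⟨Z, hZ⟩ : ∃ Z, Z = closure {y | y ∈ σ.H (.node u v) n ∧ Piece p A (.node u v) y} ⊔ R := ⟨_, rfl⟩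
      rw [← hR, ← hZ]
      haveI hRn : R.Normal := hR ▸ σ.H_normal (.node u v) (n + 1)
      have hRle : R ≤ σ.H (.node u v) n := hR ▸ σ.H_anti (.node u v) (Nat.le_succ n)
      have hRZ : R ≤ Z := hZ ▸ le_sup_right
      have hZH : Z ≤ σ.H (.node u v) n := hZ ▸ sup_le ((closure_le _).2 fun y hy => hy.1) hRle
      have hgu : ∀ a, σ.H u a ≤ closure {y | y ∈ σ.H u a ∧ Piece p A u y} := fun a =>
        le_closure_pieces hS u (σ.inv_H u a) (ihu a)
      have hgv : ∀ a, σ.H v a ≤ closure {y | y ∈ σ.H v a ∧ Piece p A v y} := fun a =>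
        le_closure_pieces hS v (σ.inv_H v a) (ihv a)
      -- conjugation by an element of degree `n` does not move elements of the term modulo the next
      have hconj : ∀ g ∈ σ.S n, ∀ z ∈ Z, g * z * g⁻¹ ∈ Z := by
        intro g hg z hz
        have h1 : ⁅g, z⁆ ∈ R := by
          rw [← commutatorElement_inv, hR]
          exact inv_mem (σ.H_anti (.node u v) (show n + 1 ≤ n + n by omega)
            (σ.H_comm_S _ n n (commutator_mem_commutator (hZH hz) hg)))
        have := mul_mem (hRZ h1) hz
        rwa [commutatorElement_def, inv_mul_cancel_right] at this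
      -- brackets of pieces
      have hpc : ∀ (a b : ℕ) (q k : G), n ≤ a + b → q ∈ σ.H u a → Piece p A u q → k ∈ σ.H v b → Piece p A v k →
          ⁅q, k⁆ ∈ Z := by
        intro a b q k hab hq hqP hk hkP
        obtain ⟨E, hE, hqk⟩ := piece_comm hqP hkP
        have hmem : ⁅q, k⁆ ∈ (CW.node u v).val (Fx E) ⊓ σ.H (.node u v) n :=
          ⟨hqk, σ.commutator_le_H hab (commutator_mem_commutator hq hk)⟩
        have hle : (CW.node u v).val (Fx E) ⊓ σ.H (.node u v) n ≤ Z :=
          le_of_hyperplanes hS ((inv_val (inv_Fx hS.comm E) _).inf (σ.inv_H _ n)) fun B' hB' y hy =>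
            hZ ▸ mem_sup_left (subset_closure ⟨hy.1.2, E, hE, hy.1.1⟩)
        exact hle hmem
      -- the term is normalised by the verbal subgroups of the parts
      have hnu : ∀ g ∈ σ.H u 0, ∀ z ∈ Z, g * z * g⁻¹ ∈ Z := by
        have hk : ∀ k ∈ σ.H u 0, Piece p A u k → ∀ z ∈ Z, k * z * k⁻¹ ∈ Z := by
          intro k hk hkP z hz
          suffices h : ⁅k, z⁆ ∈ Z by
            have := mul_mem h hz
            rwa [commutatorElement_def, inv_mul_cancel_right] at this
          let T : Subgroup G :=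
            { carrier := {y | y ∈ σ.H v n ∧ ⁅k, y⁆ ∈ Z}
              one_mem' := ⟨one_mem _, by rw [commutatorElement_one_right]; exact one_mem _⟩
              mul_mem' := fun {x y} hx hy => ⟨mul_mem hx.1 hy.1, by
                rw [commutatorElement_mul_right_eq_mul_conj, mul_assoc, mul_assoc, ← mul_assoc x]
                exact mul_mem hx.2 (hconj x (σ.H_le_S v n hx.1) _ hy.2)⟩
              inv_mem' := fun {x} hx => ⟨inv_mem hx.1, by
                have h1 : ⁅k, x⁻¹⁆ = x⁻¹ * ⁅k, x⁆⁻¹ * x⁻¹⁻¹ := by simp [commutatorElement_def, mul_assoc]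
                rw [h1]
                exact hconj _ (inv_mem (σ.H_le_S v n hx.1)) _ (inv_mem hx.2)⟩ }
          have hT : σ.H v n ≤ T := (hgv n).trans ((closure_le _).2 fun q hq =>
            ⟨hq.1, hpc 0 n k q (by omega) hk hkP hq.1 hq.2⟩)
          exact (hT (σ.H_le_right u v n (hZH hz))).2
        intro g hg
        have hsub : σ.H u 0 ≤ normalizer (Z : Set G) := (hgu 0).trans ((closure_le _).2 fun k hkk =>
          mem_normalizer_of_conj Z fun z hz => hk k hkk.1 hkk.2 z hz)
        exact fun z hz => (mem_normalizer_iff.1 (hsub hg) z).1 hz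
      have hnv : ∀ g ∈ σ.H v 0, ∀ z ∈ Z, g * z * g⁻¹ ∈ Z := by
        have hk : ∀ k ∈ σ.H v 0, Piece p A v k → ∀ z ∈ Z, k * z * k⁻¹ ∈ Z := by
          intro k hk hkP z hz
          suffices h : ⁅z, k⁆ ∈ Z by
            have := mul_mem (inv_mem h) hz
            rwa [commutatorElement_inv, commutatorElement_def, inv_mul_cancel_right] at this
          let T : Subgroup G :=
            { carrier := {y | y ∈ σ.H u n ∧ ⁅y, k⁆ ∈ Z}
              one_mem' := ⟨one_mem _, by rw [commutatorElement_one_left]; exact one_mem _⟩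
              mul_mem' := fun {x y} hx hy => ⟨mul_mem hx.1 hy.1, by
                rw [commutatorElement_mul_left_eq_conj_mul]
                exact mul_mem (hconj x (σ.H_le_S u n hx.1) _ hy.2) hx.2⟩
              inv_mem' := fun {x} hx => ⟨inv_mem hx.1, by
                have h1 : ⁅x⁻¹, k⁆ = x⁻¹ * ⁅x, k⁆⁻¹ * x⁻¹⁻¹ := by simp [commutatorElement_def, mul_assoc]
                rw [h1]
                exact hconj _ (inv_mem (σ.H_le_S u n hx.1)) _ (inv_mem hx.2)⟩ }
          have hT : σ.H u n ≤ T := (hgu n).trans ((closure_le _).2 fun q hq =>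
            ⟨hq.1, hpc n 0 q k (by omega) hq.1 hq.2 hk hkP⟩)
          exact (hT (σ.H_le_left u v n (hZH hz))).2
        intro g hg
        have hsub : σ.H v 0 ≤ normalizer (Z : Set G) := (hgv 0).trans ((closure_le _).2 fun k hkk =>
          mem_normalizer_of_conj Z fun z hz => hk k hkk.1 hkk.2 z hz)
        exact fun z hz => (mem_normalizer_iff.1 (hsub hg) z).1 hz
      refine iSup_le fun a => commutator_le.2 fun g hg k hk => ?_
      obtain ⟨b, hb⟩ : ∃ b, b = n - a.val := ⟨_, rfl⟩
      rw [← hb] at hk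
      let U : Subgroup G :=
        { carrier := {y | y ∈ σ.H u a.val ∧ ∀ q ∈ σ.H v b, ⁅y, q⁆ ∈ Z}
          one_mem' := ⟨one_mem _, fun q _ => by rw [commutatorElement_one_left]; exact one_mem _⟩
          mul_mem' := fun {x y} hx hy => ⟨mul_mem hx.1 hy.1, fun q hq => by
            rw [commutatorElement_mul_left_eq_conj_mul]
            exact mul_mem (hnu x (σ.H_anti u (Nat.zero_le _) hx.1) _ (hy.2 q hq)) (hx.2 q hq)⟩
          inv_mem' := fun {x} hx => ⟨inv_mem hx.1, fun q hq => by
            have h1 : ⁅x⁻¹, q⁆ = x⁻¹ * ⁅x, q⁆⁻¹ * x⁻¹⁻¹ := by simp [commutatorElement_def, mul_assoc]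
            rw [h1]
            exact hnu _ (σ.H_anti u (Nat.zero_le _) (inv_mem hx.1)) _ (inv_mem (hx.2 q hq))⟩ }
      have hU : σ.H u a.val ≤ U := (hgu a.val).trans ((closure_le _).2 fun q hq => ⟨hq.1, fun k hk => by
        let T : Subgroup G :=
          { carrier := {y | y ∈ σ.H v b ∧ ⁅q, y⁆ ∈ Z}
            one_mem' := ⟨one_mem _, by rw [commutatorElement_one_right]; exact one_mem _⟩
            mul_mem' := fun {x y} hx hy => ⟨mul_mem hx.1 hy.1, by
              rw [commutatorElement_mul_right_eq_mul_conj, mul_assoc, mul_assoc, ← mul_assoc x]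
              exact mul_mem hx.2 (hnv x (σ.H_anti v (Nat.zero_le _) hx.1) _ hy.2)⟩
            inv_mem' := fun {x} hx => ⟨inv_mem hx.1, by
              have h1 : ⁅q, x⁻¹⁆ = x⁻¹ * ⁅q, x⁆⁻¹ * x⁻¹⁻¹ := by simp [commutatorElement_def, mul_assoc]
              rw [h1]
              exact hnv _ (σ.H_anti v (Nat.zero_le _) (inv_mem hx.1)) _ (inv_mem hx.2)⟩ }
        have hT : σ.H v b ≤ T := (hgv b).trans ((closure_le _).2 fun y hy =>
          ⟨hy.1, hpc a.val b q y (by omega) hq.1 hq.2 hy.1 hy.2⟩)
        exact (hT hk).2⟩)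
      exact (hU hg).2 k hk

end CfsgLib.HallGen.RankWord
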